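import Cfsg.Agent.SpPres.Coord

/-!
The symplectic group is the universal completion of the amalgam of its planes and of the
three-dimensional abelian groups of consecutive pairs.
-/

set_option autoImplicit false

namespace CfsgLib.SpPres

open Matrix Subgroup

universe uF uH

variable (F : Type uF) [Field F]

/-- The indices of the members of the amalgam. -/
abbrev Idx (n : ℕ) : Type := Fin n ⊕ {i : Fin n // (i : ℕ) + 1 < n}

variable {F}

/-- The elements spanning a member. -/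
def mset {n : ℕ} : Idx n → Set (Spn F n)
  | Sum.inl j => {A | ∀ k : Fin n, k ≠ j → αSp A (eB k) = eB k ∧ αSp A (fB k) = fB k}
  | Sum.inr i => {A | (∀ k : Fin n, αSp A (eB k) = eB k) ∧
      ∀ k : Fin n, (k : ℕ) ≠ i.1 → (k : ℕ) ≠ (i.1 : ℕ) + 1 → αSp A (fB k) = fB k}

/-- A member. -/
def mem' {n : ℕ} (k : Idx n) : Subgroup (Spn F n) := closure (mset k)

/-- Shifting the indices. -/
def shift {n : ℕ} : Idx n → Idx (n + 1)
  | Sum.inl j => Sum.inl j.succ
  | Sum.inr i => Sum.inr ⟨i.1.succ, by have := i.2; simp only [Fin.val_succ]; omega⟩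

/-- The first pair. -/
def first (m : ℕ) : Idx (m + 2) := Sum.inr ⟨0, by simp⟩

variable {n : ℕ}

theorem split_eB_succ (k : Fin n) : split (eB k.succ : Vec F (n + 1)) = ((0, 0), eB k) := by
  refine Prod.ext (Prod.ext ?_ ?_) (funext fun i => ?_)
  · simp [split, eB, (Fin.succ_ne_zero k).symm]
  · simp [split, eB]
  · rcases i with i | i <;> simp [split, eB, Pi.single_apply]

theorem split_fB_succ (k : Fin n) : split (fB k.succ : Vec F (n + 1)) = ((0, 0), fB k) := by
  refine Prod.ext (Prod.ext ?_ ?_) (funext fun i => ?_)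
  · simp [split, fB]
  · simp [split, fB, (Fin.succ_ne_zero k).symm]
  · rcases i with i | i <;> simp [split, fB, Pi.single_apply]

theorem split_fB_zero : split (fB 0 : Vec F (n + 1)) = ((0, 1), 0) := by
  refine Prod.ext (Prod.ext ?_ ?_) (funext fun i => ?_)
  · simp [split, fB]
  · simp [split, fB]
  · rcases i with i | i <;> simp [split, fB]

theorem eB_inr (i j : Fin n) : (eB i : Vec F n) (Sum.inr j) = 0 := by simp [eB]

theorem fix_iff (A : Spn F (n + 1)) (v : Vec F (n + 1)) : αSp A v = v ↔ ρW A (split v) = split v := by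
  rw [ρW_apply, LinearEquiv.symm_apply_apply, split.injective.eq_iff]

theorem ext_basis {A B : Spn F n} (he : ∀ k, αSp A (eB k) = αSp B (eB k))
    (hf : ∀ k, αSp A (fB k) = αSp B (fB k)) : A = B := by
  refine Subtype.ext (Matrix.ext_of_mulVec_single fun i => ?_)
  rcases i with i | i
  · exact he i
  · exact hf i

theorem emb_mem_mset {k : Idx n} {g : Spn F n} (h : g ∈ mset k) : emb g ∈ mset (shift k) := by
  rcases k with j | i
  · intro l hl
    rw [fix_iff, fix_iff]
    induction l using Fin.cases with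
    | zero => rw [split_eB_zero, split_fB_zero, ρ_emb, ρ_emb, map_zero]; exact ⟨rfl, rfl⟩
    | succ l =>
      obtain ⟨h1, h2⟩ := h l fun e => hl (by rw [e])
      rw [split_eB_succ, split_fB_succ, ρ_emb, ρ_emb, h1, h2]; exact ⟨rfl, rfl⟩
  · refine ⟨fun l => ?_, fun l a b => ?_⟩ <;> rw [fix_iff] <;> induction l using Fin.cases with
    | zero => simp [split_eB_zero, split_fB_zero, ρ_emb]
    | succ l =>
      first
        | rw [split_eB_succ, ρ_emb, h.1 l]
        | (simp only [Fin.val_succ] at a b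
           rw [split_fB_succ, ρ_emb, h.2 l (by omega) (by omega)])

theorem map_emb_le (k : Idx n) : (mem' k).map (emb (F := F)) ≤ mem' (shift k) := by
  rw [mem', MonoidHom.map_closure]
  exact closure_mono (by rintro _ ⟨g, hg, rfl⟩; exact emb_mem_mset hg)

theorem sPl_mem_zero (s : SpecialLinearGroup (Fin 2) F) : (sPl s : Spn F (n + 1)) ∈ mset (Sum.inl 0) := by
  intro l hl
  rw [fix_iff, fix_iff]
  induction l using Fin.cases with
  | zero => exact absurd rfl hl
  | succ l => rw [split_eB_succ, split_fB_succ, ρ_sPl, ρ_sPl]; simp [act2]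

variable {m : ℕ}

theorem qEl_mem_first (t : F) : (qEl (t • eB 0) : Spn F (m + 2)) ∈ mset (first m) := by
  refine ⟨fun l => ?_, fun l a b => ?_⟩ <;> rw [fix_iff] <;> induction l using Fin.cases with
  | zero =>
    first
      | simp [split_eB_zero, ρ_qEl]
      | exact absurd rfl a
  | succ l =>
    first
      | (rw [split_eB_succ, ρ_qEl]; simp [bl_eB_left, eB_inr])
      | (rw [split_fB_succ, ρ_qEl]
         have hl : l ≠ 0 := fun e => b (by rw [e]; rfl)
         simp [bl_eB_left, fB, Pi.single_apply, hl.symm])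

theorem sPl_mem_first (d : F) : (sPl (sa d) : Spn F (m + 2)) ∈ mset (first m) := by
  refine ⟨fun l => ?_, fun l a b => ?_⟩ <;> rw [fix_iff] <;> induction l using Fin.cases with
  | zero =>
    first
      | simp [split_eB_zero, sPl_a]
      | exact absurd rfl a
  | succ l => simp [split_eB_succ, split_fB_succ, sPl_a]

theorem embPl_mem_first {g : Spn F (m + 1)} (he : ∀ l, αSp g (eB l) = eB l)
    (hf : ∀ l, l ≠ 0 → αSp g (fB l) = fB l) : emb g ∈ mset (first m) := by
  refine ⟨fun l => ?_, fun l a b => ?_⟩ <;> rw [fix_iff] <;> induction l using Fin.cases with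
  | zero => simp [split_eB_zero, split_fB_zero, ρ_emb]
  | succ l =>
    first
      | rw [split_eB_succ, ρ_emb, he l]
      | (rw [split_fB_succ, ρ_emb, hf l fun e => b (by rw [e]; rfl)])

/-- The lower torus transvection. -/
theorem tau_mem_first (t : F) : (emb (sPl (sa t)) : Spn F (m + 2)) ∈ mset (first m) := by
  refine embPl_mem_first (fun l => ?_) fun l hl => ?_ <;> rw [fix_iff] <;>
    induction l using Fin.cases with
  | zero =>
    first
      | simp [split_eB_zero, sPl_a]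
      | exact absurd rfl hl
  | succ l => simp [split_eB_succ, split_fB_succ, sPl_a]

theorem α_sPl (s : SpecialLinearGroup (Fin 2) F) (v : Vec F (n + 1)) :
    split (αSp (sPl s) v) = (act2 s (split v).1, (split v).2) := by
  have := ρ_sPl s (split v).1 (split v).2
  rwa [ρW_apply, Prod.mk.eta, LinearEquiv.symm_apply_apply] at this

theorem exists_of_first {A : Spn F (m + 2)} (h : A ∈ mset (first m)) :
    ∃ (r d : F) (g : Spn F (m + 1)), A = qEl (r • eB 0) * sPl (sa d) * emb g ∧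
      g ∈ mset (Sum.inl 0) ∧ emb g ∈ mset (first m) := by
  obtain ⟨h1, h2⟩ := h
  obtain ⟨u, d, g, rfl⟩ := exists_stab (A := A) (by
    have := h1 0; rwa [fix_iff, split_eB_zero] at this)
  have hE : ∀ l, αSp g (eB l) = eB l ∧ u (Sum.inr l) = 0 := fun l => by
    have := h1 l.succ
    rw [fix_iff, split_eB_succ, map_mul, map_mul, Equiv.Perm.mul_apply, Equiv.Perm.mul_apply, ρ_emb, sPl_a,
      ρ_qEl] at this
    simp only [Prod.mk.injEq, mul_zero, zero_add, zero_smul, add_zero, and_true] at this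
    obtain ⟨h0, h1'⟩ := this
    refine ⟨h1', ?_⟩
    rwa [h1', bl_eB_right, neg_eq_zero] at h0
  have hF : ∀ l, l ≠ 0 → αSp g (fB l) = fB l ∧ u (Sum.inl l) = 0 := fun l hl => by
    have hl' : (l : ℕ) ≠ 0 := fun e => hl (Fin.ext e)
    have := h2 l.succ (by simp [first]) (by simp [first]; omega)
    rw [fix_iff, split_fB_succ, map_mul, map_mul, Equiv.Perm.mul_apply, Equiv.Perm.mul_apply, ρ_emb, sPl_a,
      ρ_qEl] at this
    simp only [Prod.mk.injEq, mul_zero, zero_add, zero_smul, add_zero, and_true] at this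
    obtain ⟨h0, h1'⟩ := this
    refine ⟨h1', ?_⟩
    rwa [h1', bl_fB_right] at h0
  have hu : u = u (Sum.inl 0) • eB 0 := by
    funext i
    rcases i with i | i
    · by_cases hi : i = 0
      · subst hi; simp [eB]
      · simp [eB, Pi.single_apply, hi, (hF i hi).2]
    · simp [eB, (hE i).2]
  refine ⟨u (Sum.inl 0), d, g, by rw [← hu], fun l hl => ⟨(hE l).1, (hF l hl).1⟩,
    embPl_mem_first (fun l => (hE l).1) fun l hl => (hF l hl).1⟩

theorem exists_of_zero {A : Spn F (n + 1)} (h : A ∈ mset (Sum.inl 0)) : ∃ s, A = sPl s := by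
  have hv : ∀ v : Vec F n, ρW A ((0, 0), v) = ((0, 0), v) := by
    intro v
    let L : Vec F n →ₗ[F] (F × F) × Vec F n :=
      split.toLinearMap ∘ₗ (αSp A).toLinearMap ∘ₗ split.symm.toLinearMap ∘ₗ LinearMap.inr F (F × F) (Vec F n)
    have hL : L = LinearMap.inr F (F × F) (Vec F n) := by
      refine (Pi.basisFun F (Fin n ⊕ Fin n)).ext fun i => ?_
      rw [Pi.basisFun_apply]
      show ρW A ((0, 0), Pi.single i 1) = ((0, 0), Pi.single i 1)
      rcases i with i | i
      · have := (h i.succ (Fin.succ_ne_zero i)).1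
        rwa [fix_iff, split_eB_succ] at this
      · have := (h i.succ (Fin.succ_ne_zero i)).2
        rwa [fix_iff, split_fB_succ] at this
    exact LinearMap.congr_fun hL v
  have hp : ∀ p : F × F, (ρW A (p, 0)).2 = 0 := fun p => by
    by_contra hne
    obtain ⟨w, hw⟩ := exists_dual_vec hne
    have := ρW_bl A ((0, 0), w) (p, 0)
    rw [hv] at this
    simp [blW, hw] at this
  obtain ⟨⟨a, c⟩, ha⟩ : ∃ x, (ρW A ((1, 0), 0)).1 = x := ⟨_, rfl⟩
  obtain ⟨⟨b, d⟩, hb⟩ : ∃ x, (ρW A ((0, 1), 0)).1 = x := ⟨_, rfl⟩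
  have e1 : ρW A ((1, 0), 0) = ((a, c), 0) := Prod.ext ha (hp _)
  have e2 : ρW A ((0, 1), 0) = ((b, d), 0) := Prod.ext hb (hp _)
  have hdet := ρW_bl A ((1, 0), 0) ((0, 1), 0)
  rw [e1, e2] at hdet
  simp [blW] at hdet
  refine ⟨mk2 a b c d (by linear_combination hdet), ρW_injective <| Equiv.ext fun x => ?_⟩
  obtain ⟨⟨x, y⟩, v⟩ := x
  have e : (((x, y), v) : (F × F) × Vec F n) = ((0, 0), v) + x • ((1, 0), 0) + y • ((0, 1), 0) := by simp
  rw [ρ_sPl]
  conv_lhs => rw [e]
  rw [ρW_lin, ρW_lin, e1, e2, hv]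
  simp [act2, mk2_apply, mul_comm]

theorem exists_of_shift {k : Idx n} {A : Spn F (n + 1)} (h : A ∈ mset (shift k)) :
    ∃ g, g ∈ mset k ∧ A = emb g := by
  rcases k with j | i
  · obtain ⟨h1, h2⟩ := h 0 (Fin.succ_ne_zero j).symm
    rw [fix_iff, split_eB_zero] at h1
    rw [fix_iff, split_fB_zero] at h2
    obtain ⟨g, rfl⟩ := exists_emb h1 h2
    refine ⟨g, fun l hl => ?_, rfl⟩
    obtain ⟨h3, h4⟩ := h l.succ fun e => hl (Fin.succ_injective _ e)
    rw [fix_iff, split_eB_succ, ρ_emb] at h3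
    rw [fix_iff, split_fB_succ, ρ_emb] at h4
    exact ⟨congrArg Prod.snd h3, congrArg Prod.snd h4⟩
  · obtain ⟨h1, h2⟩ := h
    have a1 := h1 0
    have a2 := h2 0 (by simp) (by simp)
    rw [fix_iff, split_eB_zero] at a1
    rw [fix_iff, split_fB_zero] at a2
    obtain ⟨g, rfl⟩ := exists_emb a1 a2
    refine ⟨g, ⟨fun l => ?_, fun l a b => ?_⟩, rfl⟩
    · have := h1 l.succ
      rw [fix_iff, split_eB_succ, ρ_emb] at this
      exact congrArg Prod.snd this
    · have := h2 l.succ (by simpa using a) (by simpa using b)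
      rw [fix_iff, split_fB_succ, ρ_emb] at this
      exact congrArg Prod.snd this

theorem idx_cases (k : Idx (m + 2)) : k = Sum.inl 0 ∨ k = first m ∨ ∃ k' : Idx (m + 1), k = shift k' := by
  rcases k with j | ⟨i, hi⟩
  · induction j using Fin.cases with
    | zero => exact Or.inl rfl
    | succ j => exact Or.inr (Or.inr ⟨Sum.inl j, rfl⟩)
  · induction i using Fin.cases with
    | zero => exact Or.inr (Or.inl rfl)
    | succ i => exact Or.inr (Or.inr ⟨Sum.inr ⟨i, by simp only [Fin.val_succ] at hi; omega⟩, rfl⟩)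

theorem spn_zero_eq_one (A : Spn F 0) : A = 1 :=
  αSp_injective (LinearEquiv.ext fun v => funext fun i => i.elim Fin.elim0 Fin.elim0)

theorem top_le_split : (⊤ : Subgroup (Spn F (m + 2))) ≤
    closure (Set.range (emb (F := F) (n := m + 1)) ∪ Set.range (sPl (F := F) (n := m + 1)) ∪
      Set.range fun t : F => qEl (t • (eB 0 : Vec F (m + 1)))) := by
  set K := closure (Set.range (emb (F := F) (n := m + 1)) ∪ Set.range (sPl (F := F) (n := m + 1)) ∪
      Set.range fun t : F => qEl (t • (eB 0 : Vec F (m + 1))))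
  have he : ∀ g, emb g ∈ K := fun g => subset_closure (Or.inl (Or.inl ⟨g, rfl⟩))
  have hs : ∀ s, sPl s ∈ K := fun s => subset_closure (Or.inl (Or.inr ⟨s, rfl⟩))
  have hq : ∀ u, qEl u ∈ K := fun u => by
    by_cases hu : u = 0
    · rw [hu, qEl_zero]; exact one_mem K
    obtain ⟨g, hg⟩ := trans_vec u hu
    rw [← hg, ← emb_qEl]
    exact mul_mem (mul_mem (he g) (subset_closure (Or.inr ⟨1, by simp⟩))) (inv_mem (he g))
  intro A _
  obtain ⟨g, hgK, hg⟩ := trans_split (ρW A ((1, 0), 0)) (fun e0 => by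
    have := (split.toEquiv.symm.trans (((αSp A).toEquiv).trans split.toEquiv)).injective
      (a₁ := ((1, 0), 0)) (a₂ := 0) (by
        show ρW A ((1, 0), 0) = split (αSp A (split.symm 0))
        rw [e0]; simp)
    simp [Prod.ext_iff] at this)
  have hgK' : g ∈ K := by
    refine (closure_le _).2 ?_ hgK
    rintro x (⟨s, rfl⟩ | ⟨u, rfl⟩)
    · exact hs s
    · exact hq u
  obtain ⟨u, d, h, e⟩ := exists_stab (A := g⁻¹ * A) (by
    rw [map_mul, Equiv.Perm.mul_apply, ← hg, map_inv, Equiv.Perm.inv_def, Equiv.symm_apply_apply])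
  rw [show A = g * (g⁻¹ * A) by group, e]
  exact mul_mem hgK' (mul_mem (mul_mem (hq u) (hs _)) (he h))

/-- The members generate. -/
theorem iSup_mem' : ∀ n : ℕ, (⨆ k, mem' (F := F) (n := n) k) = ⊤
  | 0 => eq_top_iff.2 fun A _ => by rw [spn_zero_eq_one A]; exact one_mem _
  | 1 => by
    refine eq_top_iff.2 (le_trans ?_ (le_iSup (fun k => mem' (F := F) (n := 1) k) (Sum.inl 0)))
    exact fun A _ => subset_closure fun l hl => absurd (Subsingleton.elim l 0) hl
  | m + 2 => by
    refine eq_top_iff.2 (top_le_split.trans ((closure_le _).2 ?_))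
    rintro x ((⟨g, rfl⟩ | ⟨s, rfl⟩) | ⟨t, rfl⟩)
    · have : g ∈ (⨆ k, mem' (F := F) (n := m + 1) k) := by rw [iSup_mem' (m + 1)]; trivial
      have h := mem_map_of_mem (emb (F := F) (n := m + 1)) this
      rw [Subgroup.map_iSup] at h
      exact (iSup_le fun k => (map_emb_le k).trans (le_iSup (fun k => mem' (F := F) (n := m + 2) k) (shift k))) h
    · exact le_iSup (fun k => mem' (F := F) (n := m + 2) k) (Sum.inl 0) (subset_closure (sPl_mem_zero s))
    · exact le_iSup (fun k => mem' (F := F) (n := m + 2) k) (first m) (subset_closure (qEl_mem_first t))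

/-- An element is conjugation-compatible with the scaling of the base vector. -/
theorem tor_e (l : Fˣ) : αSp (sPl (sh l)) (eB 0 : Vec F (n + 1)) = (l : F) • eB 0 := by
  apply split.injective
  rw [α_sPl, map_smul, split_eB_zero]
  simp [act2, sh, mk2_apply]

theorem α_sPl_a (t : F) (x : Vec F (m + 1)) : αSp (sPl (sa t)) x = x + (t * bl (eB 0) x) • eB 0 := by
  apply split.injective
  rw [α_sPl, map_add, map_smul, split_eB_zero, bl_eB_left]
  have e : (split x).1.2 = x (Sum.inr 0) := rfl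
  rw [← e]
  refine Prod.ext (Prod.ext ?_ ?_) ?_ <;> simp [act2, sa, mk2_apply]

theorem α_pairs (c : F) (hc : c ≠ 0) (h : (0 : F) * 0 - -c⁻¹ * c = 1) :
    αSp (sPl (mk2 0 (-c⁻¹) c 0 h) : Spn F (m + 1)) (eB 0) = c • fB 0 ∧
      αSp (sPl (sb c) : Spn F (m + 1)) (eB 0) = eB 0 + c • fB 0 := by
  have := hc
  constructor <;> apply split.injective
  · rw [α_sPl, map_smul, split_eB_zero, split_fB_zero]; simp [act2, mk2_apply]
  · rw [α_sPl, map_add, map_smul, split_eB_zero, split_fB_zero]; simp [act2, sb, mk2_apply]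

theorem id_add (t u : F) :
    (qEl ((t + u) • eB 0) : Spn F (m + 2)) = qEl (t • eB 0) * qEl (u • eB 0) :=
  ρW_injective <| Equiv.ext fun ⟨p, v⟩ => by
    simp only [map_mul, Equiv.Perm.mul_apply, ρ_qEl, map_add, map_smul, LinearMap.add_apply,
      LinearMap.smul_apply, bl_alt, smul_eq_mul, mul_zero, add_zero]
    refine Prod.ext (Prod.ext ?_ rfl) ?_
    · show _ + _ = _; ring
    · show _ + _ = _; module

theorem id_pair (c : F) (g g' : Spn F (m + 1)) (hg : αSp g (eB 0) = c • fB 0)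
    (hg' : αSp g' (eB 0) = eB 0 + c • fB 0) :
    (qEl ((1 : F) • eB 0) * (emb g * qEl ((1 : F) • eB 0) * (emb g)⁻¹) : Spn F (m + 2)) =
      emb g' * qEl ((1 : F) • eB 0) * (emb g')⁻¹ * sPl (sa c) := by
  rw [emb_qEl, emb_qEl, one_smul, hg, hg']
  refine ρW_injective <| Equiv.ext fun ⟨p, v⟩ => ?_
  simp only [map_mul, Equiv.Perm.mul_apply, ρ_qEl, sPl_a, map_add, map_smul, LinearMap.add_apply,
    LinearMap.smul_apply, smul_eq_mul]
  refine Prod.ext (Prod.ext ?_ rfl) ?_
  · show _ + _ = _ + _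
    simp [bl_eB_left, fB]; ring
  · show _ + _ = _ + _; module

theorem id_up (d t : F) : (sPl (sa d) * qEl (t • eB 0) : Spn F (m + 2)) = qEl (t • eB 0) * sPl (sa d) :=
  ρW_injective <| Equiv.ext fun ⟨p, v⟩ => by
    simp only [map_mul, Equiv.Perm.mul_apply, ρ_qEl, sPl_a]
    refine Prod.ext (Prod.ext ?_ rfl) rfl
    show _ + _ = _ + _; ring

theorem id_tor (l : Fˣ) (t : F) :
    (sPl (sh l) * qEl (t • eB 0) : Spn F (m + 2)) = qEl (((l : F) * t) • eB 0) * sPl (sh l) := by
  refine ρW_injective <| Equiv.ext fun ⟨p, v⟩ => ?_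
  simp only [map_mul, Equiv.Perm.mul_apply, ρ_qEl, ρ_sPl, map_smul, LinearMap.smul_apply, smul_eq_mul]
  refine Prod.ext (Prod.ext ?_ ?_) ?_ <;> simp [act2, sh, mk2_apply, smul_smul] <;> field_simp

theorem id_low (t : F) : (sPl (sb t) * qEl ((1 : F) • eB 0) : Spn F (m + 2)) =
    sPl sw * qEl (t • eB 0) * sPl sw⁻¹ * emb (sPl (sa t)) * qEl ((1 : F) • eB 0) * sPl (sb t) := by
  refine ρW_injective <| Equiv.ext fun ⟨⟨a, c⟩, v⟩ => ?_
  have hB : bl (eB 0 : Vec F (m + 1)) (eB 0) = 0 := bl_alt _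
  have hb : ∀ x y : F, act2 (sb t) (x, y) = (x, t * x + y) := fun x y => by simp [act2, sb, mk2_apply]
  have hw : ∀ x y : F, act2 (sw : SpecialLinearGroup (Fin 2) F) (x, y) = (-y, x) := fun x y => by
    simp [act2, sw, mk2_apply]
  have hw' : ∀ x y : F, act2 (sw : SpecialLinearGroup (Fin 2) F)⁻¹ (x, y) = (y, -x) := fun x y => by
    rw [sw_inv]; simp [act2, mk2_apply]
  rw [map_mul, map_mul, map_mul, map_mul, map_mul, map_mul]
  simp only [Equiv.Perm.mul_apply]
  simp only [ρ_qEl, ρ_sPl, ρ_emb, hb, hw', hw, α_sPl_a]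
  simp only [map_add, map_smul, LinearMap.smul_apply, smul_eq_mul, hB, mul_zero, add_zero, one_mul]
  refine Prod.ext (Prod.ext ?_ ?_) ?_
  · show _ = - -_; ring
  · show _ = _; ring
  · show _ = _; module

section Extend

variable {H : Type uH} [Group H] (f : ∀ k : Idx (m + 2), ↥(mem' (F := F) k) →* H)
  (hf : ∀ k l, ∃ Ψ : ↥(mem' (F := F) k ⊔ mem' l) →* H,
    (∀ g (hg : g ∈ mem' k), Ψ ⟨g, mem_sup_left hg⟩ = f k ⟨g, hg⟩) ∧
      ∀ g (hg : g ∈ mem' l), Ψ ⟨g, mem_sup_right hg⟩ = f l ⟨g, hg⟩)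

include hf in
theorem agree (k l : Idx (m + 2)) {g : Spn F (m + 2)} (hk : g ∈ mem' k) (hl : g ∈ mem' l) :
    f k ⟨g, hk⟩ = f l ⟨g, hl⟩ := by
  obtain ⟨Ψ, h1, h2⟩ := hf k l
  rw [← h1 g hk, ← h2 g hl]

include hf in
theorem commute_of_commute (k l : Idx (m + 2)) {g g' : Spn F (m + 2)} (hk : g ∈ mem' k) (hl : g' ∈ mem' l)
    (h : g * g' = g' * g) : f k ⟨g, hk⟩ * f l ⟨g', hl⟩ = f l ⟨g', hl⟩ * f k ⟨g, hk⟩ := by
  obtain ⟨Ψ, h1, h2⟩ := hf k l
  rw [← h1 g hk, ← h2 g' hl, ← map_mul, ← map_mul]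
  exact congrArg Ψ (Subtype.ext h)

include hf in
theorem stab_commute (Φ' : Spn F (m + 1) →* H)
    (hΦ' : ∀ k g (hg : g ∈ mem' k), Φ' g = f (shift k) ⟨emb g, map_emb_le k (mem_map_of_mem emb hg)⟩) :
    ∀ g, αSp g (eB 0) = eB 0 → ∀ t, Φ' g * f (first m) ⟨qEl (t • eB 0), subset_closure (qEl_mem_first t)⟩ =
      f (first m) ⟨qEl (t • eB 0), subset_closure (qEl_mem_first t)⟩ * Φ' g := by
  let rH : F → H := fun t => f (first m) ⟨qEl (t • eB 0), subset_closure (qEl_mem_first t)⟩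
  have pl_mem : ∀ s, (sPl s : Spn F (m + 1)) ∈ mem' (Sum.inl 0) := fun s => subset_closure (sPl_mem_zero s)
  let C : Subgroup (Spn F (m + 1)) :=
    { carrier := {g | ∀ t, Φ' g * rH t = rH t * Φ' g}
      one_mem' := fun t => by simp
      mul_mem' := fun {a b} ha hb t => by rw [map_mul, mul_assoc, hb, ← mul_assoc, ha, mul_assoc]
      inv_mem' := fun {a} ha t => by
        have := ha t
        rw [map_inv, inv_mul_eq_iff_eq_mul, ← mul_assoc, this]; group }
  have hC : ∀ (k : Idx (m + 1)) (g : Spn F (m + 1)), g ∈ mem' k → αSp g (eB 0) = eB 0 → g ∈ C := fun k g hg he t => by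
    rw [hΦ' k g hg]
    refine commute_of_commute f hf _ _ _ _ (mul_inv_eq_iff_eq_mul.1 ?_)
    rw [emb_qEl, map_smul, he]
  intro g hg
  obtain ⟨u, d, g', rfl⟩ := exists_stab (A := g) (by
    rwa [fix_iff, split_eB_zero] at hg)
  have hsa : sPl (sa d) ∈ C := hC _ _ (pl_mem _) (by
    rw [fix_iff, split_eB_zero, sPl_a]; simp)
  cases m with
  | zero =>
    rw [spn_zero_eq_one g', map_one, mul_one,
      show u = 0 from funext fun i => i.elim Fin.elim0 Fin.elim0, qEl_zero, one_mul]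
    exact hsa
  | succ k =>
    have he : ∀ g : Spn F (k + 1), emb g ∈ C := fun g => by
      have hg : g ∈ ⨆ i, mem' (F := F) (n := k + 1) i := by rw [iSup_mem']; trivial
      refine iSup_induction (fun i => mem' (F := F) (n := k + 1) i) (C := fun g => emb g ∈ C)
        hg (fun i x hx => ?_) (by rw [map_one]; exact one_mem C) (fun x y hx hy => by rw [map_mul]; exact mul_mem hx hy)
      refine hC (shift i) _ (map_emb_le _ (mem_map_of_mem emb hx)) ?_
      rw [fix_iff, split_eB_zero, ρ_emb, map_zero]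
    have hq : qEl u ∈ C := by
      by_cases hu : u = 0
      · rw [hu, qEl_zero]; exact one_mem C
      obtain ⟨h, rfl⟩ := trans_vec u hu
      rw [← emb_qEl, ← one_smul F (eB 0 : Vec F (k + 1))]
      refine mul_mem (mul_mem (he h) ?_) (inv_mem (he h))
      refine hC (first k) _ (subset_closure (qEl_mem_first 1)) ?_
      rw [fix_iff, split_eB_zero, ρ_qEl]; simp
    exact mul_mem (mul_mem hq hsa) (he g')

include hf in
theorem exists_hom' (Φ' : Spn F (m + 1) →* H)
    (hF : (∃ a : F, a ≠ 0 ∧ a ≠ 1) ∨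
      ∀ w : Vec F (m + 1), (∀ c : F, w ≠ c • eB 0) → bl (eB 0) w = 0 →
        ∀ g g', αSp g (eB 0) = w → αSp g' (eB 0) = eB 0 + w →
          f (first m) ⟨qEl ((1 : F) • eB 0), subset_closure (qEl_mem_first 1)⟩ *
              (Φ' g * f (first m) ⟨qEl ((1 : F) • eB 0), subset_closure (qEl_mem_first 1)⟩ * (Φ' g)⁻¹) =
            Φ' g' * f (first m) ⟨qEl ((1 : F) • eB 0), subset_closure (qEl_mem_first 1)⟩ * (Φ' g')⁻¹)
    (hΦ' : ∀ k g (hg : g ∈ mem' k), Φ' g = f (shift k) ⟨emb g, map_emb_le k (mem_map_of_mem emb hg)⟩) :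
    ∃ Φ : Spn F (m + 2) →* H, ∀ k g (hg : g ∈ mem' k), Φ g = f k ⟨g, hg⟩ := by
  classical
  let sH : SpecialLinearGroup (Fin 2) F →* H :=
    (f (Sum.inl 0)).comp ((sPl (F := F) (n := m + 1)).codRestrict _ fun s => subset_closure (sPl_mem_zero s))
  have hsH : ∀ s, sH s = f (Sum.inl 0) ⟨sPl s, subset_closure (sPl_mem_zero s)⟩ := fun s => rfl
  let rH : F → H := fun t => f (first m) ⟨qEl (t • eB 0), subset_closure (qEl_mem_first t)⟩
  -- generators of the product
  let φ₀ : Spn F (m + 1) →* Spn F (m + 2) × H := emb.prod Φ'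
  let σ₀ : SpecialLinearGroup (Fin 2) F →* Spn F (m + 2) × H := sPl.prod sH
  let R₀ : F → Spn F (m + 2) × H := fun t => (qEl (t • eB 0), rH t)
  let E : Subgroup (Spn F (m + 2) × H) := closure (Set.range φ₀ ∪ Set.range σ₀ ∪ Set.range R₀)
  let φ := φ₀.codRestrict E fun g => subset_closure (Or.inl (Or.inl ⟨g, rfl⟩))
  let σ := σ₀.codRestrict E fun s => subset_closure (Or.inl (Or.inr ⟨s, rfl⟩))
  let R : F → E := fun t => ⟨R₀ t, subset_closure (Or.inr ⟨t, rfl⟩)⟩
  have pl_mem : ∀ s, (sPl s : Spn F (m + 1)) ∈ mem' (Sum.inl 0) := fun s => subset_closure (sPl_mem_zero s)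
  have hpl : ∀ s, Φ' (sPl s) = f (shift (Sum.inl 0)) ⟨emb (sPl s), map_emb_le _ (mem_map_of_mem emb (pl_mem s))⟩ :=
    fun s => hΦ' _ _ (pl_mem s)
  -- the commutation with the plane
  have hcomm : ∀ g s, Φ' g * sH s = sH s * Φ' g := by
    intro g s
    have hg : g ∈ ⨆ k, mem' (F := F) (n := m + 1) k := by rw [iSup_mem']; trivial
    refine iSup_induction (fun k => mem' (F := F) (n := m + 1) k) (C := fun g => Φ' g * sH s = sH s * Φ' g)
      hg (fun k x hx => ?_) (by simp) (fun x y hx hy => by rw [map_mul, mul_assoc, hy, ← mul_assoc, hx, mul_assoc])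
    rw [hΦ' k x hx, hsH]
    refine commute_of_commute f hf _ _ _ _ (ρW_injective <| Equiv.ext fun ⟨p, v⟩ => ?_)
    simp only [map_mul, Equiv.Perm.mul_apply, ρ_emb, ρ_sPl]
  -- the stabiliser of the base vector commutes with the root group
  have hstab : ∀ g, αSp g (eB 0) = eB 0 → ∀ t, Φ' g * rH t = rH t * Φ' g := stab_commute f hf Φ' hΦ'
  have eS : ∀ {x y : E}, (x.1.1 = y.1.1) → x.1.2 = y.1.2 → x = y := fun h h' => Subtype.ext (Prod.ext h h')
  obtain ⟨Ψ, hΨ0, hΨ1⟩ := hf (first m) (Sum.inl 0)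
  obtain ⟨Ω, hΩ0, hΩ1⟩ := hf (first m) (shift (Sum.inl 0))
  let S : Step F (Vec F (m + 1)) (Spn F (m + 1)) E :=
    { ω := bl
      alt := bl_alt
      α := αSp
      α_inj := αSp_injective
      α_ω := αSp_bl
      e := eB 0
      f := fB 0
      ef := by simp [bl_eB_left, fB]
      trans := trans_vec
      transPair := trans_pair
      perp := hF.imp (fun ⟨a, ha0, ha1⟩ => ⟨-a, neg_ne_zero.2 ha0, fun h => ha1 (neg_injective h)⟩)
        fun hp w hw hw0 g g' hg hg' => by
          refine eS ?_ (hp w hw hw0 g g' hg hg')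
          show qEl ((1 : F) • eB 0) * (emb g * qEl ((1 : F) • eB 0) * (emb g)⁻¹) =
            emb g' * qEl ((1 : F) • eB 0) * (emb g')⁻¹
          rw [one_smul, emb_qEl, emb_qEl, hg, hg']
          refine ρW_injective <| Equiv.ext fun ⟨p, v⟩ => ?_
          simp only [map_mul, Equiv.Perm.mul_apply, ρ_qEl, map_add, map_smul, LinearMap.add_apply,
            smul_eq_mul, hw0, mul_zero, add_zero, smul_add]
          refine Prod.ext (Prod.ext (by ring) rfl) ?_
          show _ = _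
          module
      ρ := ρW.comp ((MonoidHom.fst _ _).comp E.subtype)
      φ := φ
      σ := σ
      comm := fun g s => eS (ρW_injective <| Equiv.ext fun ⟨p, v⟩ => by
          show ρW (emb g * sPl s) (p, v) = ρW (sPl s * emb g) (p, v)
          simp only [map_mul, Equiv.Perm.mul_apply, ρ_emb, ρ_sPl]) (hcomm g s)
      R := R
      ρφ := fun g p v => ρ_emb g p v
      ρσ := fun s p v => ρ_sPl s p v
      ρR := fun t p v => by
        show ρW (qEl (t • eB 0)) (p, v) = _
        rw [ρ_qEl, map_smul, LinearMap.smul_apply, smul_eq_mul, smul_smul]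
      gen := by
        refine eq_top_iff.2 fun x _ => ?_
        have : x.1 ∈ (closure (Set.range φ ∪ Set.range σ ∪ Set.range R)).map E.subtype := by
          rw [MonoidHom.map_closure]
          refine closure_mono ?_ x.2
          rintro y ((⟨g, rfl⟩ | ⟨s, rfl⟩) | ⟨t, rfl⟩)
          · exact ⟨φ g, Or.inl (Or.inl ⟨g, rfl⟩), rfl⟩
          · exact ⟨σ s, Or.inl (Or.inr ⟨s, rfl⟩), rfl⟩
          · exact ⟨R t, Or.inr ⟨t, rfl⟩, rfl⟩
        obtain ⟨z, hz, e⟩ := this
        rwa [← Subtype.ext e]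
      R_add := fun t u => by
        refine eS (id_add t u) ?_
        show rH (t + u) = rH t * rH u
        simp only [rH]
        rw [← map_mul]
        exact congrArg _ (Subtype.ext (id_add t u))
      R_scale := fun g c hg t => by
        have e1 : (emb g * qEl (t • eB 0) * (emb g)⁻¹ : Spn F (m + 2)) = qEl ((c * t) • eB 0) := by
          rw [emb_qEl, map_smul, hg, smul_smul, mul_comm t c]
        refine eS e1 ?_
        show Φ' g * rH t * (Φ' g)⁻¹ = rH (c * t)
        have hc : c ≠ 0 := fun e0 => by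
          rw [e0, zero_smul] at hg
          have := congrFun ((LinearEquiv.map_eq_zero_iff _).1 hg) (Sum.inl 0)
          simp [eB] at this
        set l := Units.mk0 c hc
        have hl : ∀ t, Φ' (sPl (sh l)) * rH t = rH (c * t) * Φ' (sPl (sh l)) := fun t => by
          have e : (emb (sPl (sh l)) * qEl (t • eB 0) : Spn F (m + 2)) =
              qEl ((c * t) • eB 0) * emb (sPl (sh l)) := by
            refine mul_inv_eq_iff_eq_mul.1 ?_
            rw [emb_qEl, map_smul, tor_e, smul_smul, mul_comm t]; rfl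
          have hm := fun s => map_emb_le _ (mem_map_of_mem (emb (F := F) (n := m + 1)) (pl_mem s))
          have hq := fun t : F => (subset_closure (qEl_mem_first t) : _ ∈ mem' (first m))
          have e' := congrArg Ω (Subtype.ext e : (⟨_, mem_sup_right (hm _)⟩ : ↥(mem' (first m) ⊔ mem' (shift _))) *
            ⟨_, mem_sup_left (hq t)⟩ = ⟨_, mem_sup_left (hq (c * t))⟩ * ⟨_, mem_sup_right (hm _)⟩)
          simp only [map_mul, hΩ0 _ (hq _), hΩ1 _ (hm _)] at e'
          rw [hpl]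
          exact e'
        have h0 := hstab ((sPl (sh l))⁻¹ * g) (by
          rw [αSp_mul, hg, show c • (eB 0 : Vec F (m + 1)) = αSp (sPl (sh l)) (eB 0) from (tor_e l).symm, αSp_inv]) t
        rw [map_mul, map_inv] at h0
        calc Φ' g * rH t * (Φ' g)⁻¹
            = Φ' (sPl (sh l)) * ((Φ' (sPl (sh l)))⁻¹ * Φ' g * rH t) * (Φ' g)⁻¹ := by group
          _ = Φ' (sPl (sh l)) * rH t * (Φ' (sPl (sh l)))⁻¹ := by rw [h0]; group
          _ = _ := by rw [hl]; group
      R_pair := fun c hc => by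
        have hdet : (0 : F) * 0 - -c⁻¹ * c = 1 := by field_simp; ring
        obtain ⟨hge, hge'⟩ := α_pairs (m := m) c hc hdet
        refine ⟨sPl (mk2 0 (-c⁻¹) c 0 hdet), sPl (sb c), hge, hge', ?_⟩
        set g := (sPl (mk2 0 (-c⁻¹) c 0 hdet) : Spn F (m + 1)) with hgd
        refine eS (id_pair c g _ hge hge') ?_
        show rH 1 * (Φ' g * rH 1 * (Φ' g)⁻¹) = Φ' (sPl (sb c)) * rH 1 * (Φ' (sPl (sb c)))⁻¹ * sH (sa c)
        have hm := fun s => map_emb_le _ (mem_map_of_mem (emb (F := F) (n := m + 1)) (pl_mem s))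
        have hq : _ ∈ mem' (first m) := subset_closure (qEl_mem_first (1 : F))
        have ha : _ ∈ mem' (first m) := subset_closure (sPl_mem_first (m := m) c)
        let K := mem' (F := F) (first m) ⊔ mem' (shift (Sum.inl 0))
        have e' := congrArg Ω (Subtype.ext (id_pair c g _ hge hge') : (⟨_, mem_sup_left hq⟩ : ↥K) *
          (⟨_, mem_sup_right (hm _)⟩ * ⟨_, mem_sup_left hq⟩ * (⟨_, mem_sup_right (hm _)⟩)⁻¹) =
          ⟨_, mem_sup_right (hm (sb c))⟩ * ⟨_, mem_sup_left hq⟩ * (⟨_, mem_sup_right (hm _)⟩)⁻¹ *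
            ⟨_, mem_sup_left ha⟩)
        simp only [map_mul, map_inv, hΩ0 _ hq, hΩ0 _ ha, hΩ1 _ (hm _)] at e'
        rw [hgd, hpl, hpl, show sH (sa c) = f (first m) ⟨_, ha⟩ from
          (hsH _).trans (agree f hf (Sum.inl 0) (first m) _ ha)]
        exact e'
      R_up := fun d t => by
        refine eS (id_up d t) ?_
        exact commute_of_commute f hf _ _ _ _ (id_up d t)
      R_tor := fun l t => by
        refine eS (mul_inv_eq_iff_eq_mul.2 (id_tor l t)) ?_
        show sH (sh l) * rH t * (sH (sh l))⁻¹ = rH (l * t)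
        rw [mul_inv_eq_iff_eq_mul, hsH]
        have hs : _ ∈ mem' (Sum.inl 0) := subset_closure (sPl_mem_zero (n := m + 1) (sh l))
        have hq := fun t : F => (subset_closure (qEl_mem_first t) : _ ∈ mem' (first m))
        have e' := congrArg Ψ (Subtype.ext (id_tor l t) : (⟨_, mem_sup_right hs⟩ : ↥(mem' (first m) ⊔ mem' _)) *
            ⟨_, mem_sup_left (hq t)⟩ = ⟨_, mem_sup_left (hq _)⟩ * ⟨_, mem_sup_right hs⟩)
        simp only [map_mul, hΨ0 _ (hq _), hΨ1 _ hs] at e'
        exact e'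
      R_low := fun t => by
        refine ⟨sPl (sa t), α_sPl_a t, ?_⟩
        have e1 : (sPl (sb t) * qEl ((1 : F) • eB 0) * (sPl (sb t))⁻¹ : Spn F (m + 2)) =
            sPl sw * qEl (t • eB 0) * (sPl sw)⁻¹ * emb (sPl (sa t)) * qEl ((1 : F) • eB 0) := by
          rw [mul_inv_eq_iff_eq_mul, id_low, map_inv]
        refine eS e1 ?_
        show sH (sb t) * rH 1 * (sH (sb t))⁻¹ = sH sw * rH t * (sH sw)⁻¹ * Φ' (sPl (sa t)) * rH 1
        have hs := fun s => (subset_closure (sPl_mem_zero (n := m + 1) s) : _ ∈ mem' (F := F) (Sum.inl 0))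
        have hq := fun t : F => (subset_closure (qEl_mem_first t) : _ ∈ mem' (first m))
        have hτ : _ ∈ mem' (first m) := subset_closure (tau_mem_first (m := m) t)
        let K := mem' (F := F) (first m) ⊔ mem' (Sum.inl 0)
        have e' := congrArg Ψ (Subtype.ext e1 : (⟨_, mem_sup_right (hs (sb t))⟩ : ↥K) * ⟨_, mem_sup_left (hq 1)⟩ *
          (⟨_, mem_sup_right (hs (sb t))⟩)⁻¹ = ⟨_, mem_sup_right (hs sw)⟩ * ⟨_, mem_sup_left (hq t)⟩ *
          (⟨_, mem_sup_right (hs sw)⟩)⁻¹ * ⟨_, mem_sup_left hτ⟩ * ⟨_, mem_sup_left (hq 1)⟩)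
        simp only [map_mul, map_inv, hΨ0 _ (hq _), hΨ0 _ hτ, hΨ1 _ (hs _)] at e'
        rw [hsH, hsH, show Φ' (sPl (sa t)) = f (first m) ⟨_, hτ⟩ from
          (hpl _).trans (agree f hf (shift (Sum.inl 0)) (first m) _ hτ)]
        exact e' }
  let π : E →* Spn F (m + 2) := (MonoidHom.fst _ _).comp E.subtype
  have hπi : Function.Injective π := fun x y h => S.ρ_injective (congrArg ρW h)
  have hπs : Function.Surjective π := by
    rw [← MonoidHom.range_eq_top]
    refine eq_top_iff.2 (top_le_split.trans ((closure_le _).2 ?_))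
    rintro x ((⟨g, rfl⟩ | ⟨s, rfl⟩) | ⟨t, rfl⟩)
    · exact ⟨φ g, rfl⟩
    · exact ⟨σ s, rfl⟩
    · exact ⟨R t, rfl⟩
  let e := MulEquiv.ofBijective π ⟨hπi, hπs⟩
  let Φ : Spn F (m + 2) →* H := ((MonoidHom.snd _ _).comp E.subtype).comp e.symm.toMonoidHom
  have hval : ∀ x : E, Φ x.1.1 = x.1.2 := fun x => by
    show (e.symm (π x)).1.2 = _
    rw [show π x = e x from rfl, e.symm_apply_apply]
  have hφ : ∀ g, Φ (emb g) = Φ' g := fun g => hval (φ g)
  have hσ : ∀ s, Φ (sPl s) = sH s := fun s => hval (σ s)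
  refine ⟨Φ, fun k g hg => ?_⟩
  suffices h : Φ.comp (mem' k).subtype = f k from DFunLike.congr_fun h ⟨g, hg⟩
  refine MonoidHom.eq_of_eqOn_dense (s := ((mem' k).subtype ⁻¹' mset k)) (closure_closure_coe_preimage) ?_
  rintro ⟨x, hx⟩ hxs
  show Φ x = f k ⟨x, hx⟩
  change x ∈ mset k at hxs
  rcases idx_cases k with rfl | rfl | ⟨k', rfl⟩
  · obtain ⟨s, rfl⟩ := exists_of_zero hxs
    exact hσ s
  · obtain ⟨r, d, g', rfl, hg', hg''⟩ := exists_of_first hxs
    have a1 : qEl (r • eB 0) ∈ mem' (first m) := subset_closure (qEl_mem_first r)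
    have a2 : sPl (sa d) ∈ mem' (first m) := subset_closure (sPl_mem_first d)
    have a3 : emb g' ∈ mem' (first m) := subset_closure hg''
    have e1 : Φ (qEl (r • eB 0)) = f (first m) ⟨_, a1⟩ := hval (R r)
    have e2 : Φ (sPl (sa d)) = f (first m) ⟨_, a2⟩ := (hσ _).trans (agree f hf _ (first m) _ a2)
    have e3 : Φ (emb g') = f (first m) ⟨_, a3⟩ :=
      ((hφ g').trans (hΦ' _ _ (subset_closure hg'))).trans (agree f hf _ (first m) _ a3)
    rw [map_mul, map_mul, e1, e2, e3, ← map_mul, ← map_mul]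
    exact congrArg _ (Subtype.ext rfl)
  · obtain ⟨g', hg', rfl⟩ := exists_of_shift hxs
    rw [hφ, hΦ' _ _ (subset_closure hg')]

include hf in
theorem exists_hom (hF : ∃ a : F, a ≠ 0 ∧ a ≠ 1) (Φ' : Spn F (m + 1) →* H)
    (hΦ' : ∀ k g (hg : g ∈ mem' k), Φ' g = f (shift k) ⟨emb g, map_emb_le k (mem_map_of_mem emb hg)⟩) :
    ∃ Φ : Spn F (m + 2) →* H, ∀ k g (hg : g ∈ mem' k), Φ g = f k ⟨g, hg⟩ :=
  exists_hom' f hf Φ' (Or.inl hF) hΦ'

end Extend

/-- **The amalgam**: compatible homomorphisms on the members extend to the symplectic group. -/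
theorem exists_completion (hF : ∃ a : F, a ≠ 0 ∧ a ≠ 1) {H : Type uH} [Group H] :
    ∀ (n : ℕ) (f : ∀ k : Idx n, ↥(mem' (F := F) k) →* H),
      (∀ k l, ∃ Ψ : ↥(mem' (F := F) k ⊔ mem' l) →* H,
        (∀ g (hg : g ∈ mem' k), Ψ ⟨g, mem_sup_left hg⟩ = f k ⟨g, hg⟩) ∧
          ∀ g (hg : g ∈ mem' l), Ψ ⟨g, mem_sup_right hg⟩ = f l ⟨g, hg⟩) →
      ∃ Φ : Spn F n →* H, ∀ k g (hg : g ∈ mem' k), Φ g = f k ⟨g, hg⟩
  | 0, f, _ => ⟨1, fun k => by rcases k with j | ⟨i, -⟩ <;> exact Fin.elim0 (by assumption)⟩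
  | 1, f, _ => by
    have ht : mem' (F := F) (n := 1) (Sum.inl 0) = ⊤ :=
      eq_top_iff.2 fun A _ => subset_closure fun l hl => absurd (Subsingleton.elim l 0) hl
    refine ⟨(f (Sum.inl 0)).comp ((MonoidHom.id _).codRestrict _ fun A => by rw [ht]; trivial), fun k g hg => ?_⟩
    rcases k with j | ⟨i, hi⟩
    · obtain rfl := Subsingleton.elim j 0; rfl
    · exact absurd hi (by omega)
  | m + 2, f, hf => by
    let f' : ∀ k : Idx (m + 1), ↥(mem' (F := F) k) →* H := fun k =>
      (f (shift k)).comp ((emb.comp (mem' k).subtype).codRestrict _ fun g =>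
        map_emb_le k (mem_map_of_mem emb g.2))
    obtain ⟨Φ', hΦ'⟩ := exists_completion hF (m + 1) f' fun k l => by
      obtain ⟨Ψ, h1, h2⟩ := hf (shift k) (shift l)
      have hle : (mem' (F := F) k ⊔ mem' l).map emb ≤ mem' (shift k) ⊔ mem' (shift l) := by
        rw [Subgroup.map_sup]; exact sup_le_sup (map_emb_le k) (map_emb_le l)
      exact ⟨Ψ.comp ((emb.comp (mem' k ⊔ mem' l).subtype).codRestrict _ fun g => hle (mem_map_of_mem emb g.2)),
        fun g hg => h1 _ _, fun g hg => h2 _ _⟩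
    exact exists_hom f hf hF Φ' hΦ'

end CfsgLib.SpPres
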