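import Cfsg.Agent.SpPres.Step
import Mathlib.LinearAlgebra.SymplecticGroup
import Mathlib.LinearAlgebra.Matrix.ToLin

/-!
Coordinates for the symplectic groups: `F^{2(n+1)} = F² ⊕ F^{2n}`, transitivity, stabilisers.
-/

set_option autoImplicit false

namespace CfsgLib.SpPres

open Matrix

universe uF

variable (F : Type uF) [Field F]

/-- Column vectors. -/
abbrev Vec (n : ℕ) : Type uF := Fin n ⊕ Fin n → F

/-- The symplectic group of rank `n`. -/
abbrev Spn (n : ℕ) : Type uF := ↥(Matrix.symplecticGroup (Fin n) F)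

variable {F} {n : ℕ}

/-- The standard alternating form. -/
def bl : Vec F n →ₗ[F] Vec F n →ₗ[F] F :=
  LinearMap.mk₂ F (fun v w => ∑ i, (v (Sum.inl i) * w (Sum.inr i) - v (Sum.inr i) * w (Sum.inl i)))
    (fun a b c => by simp only [Pi.add_apply]; rw [← Finset.sum_add_distrib]; exact Finset.sum_congr rfl fun i _ => by ring)
    (fun k a c => by simp only [Pi.smul_apply, smul_eq_mul]; rw [Finset.mul_sum]; exact Finset.sum_congr rfl fun i _ => by ring)
    (fun a b c => by simp only [Pi.add_apply]; rw [← Finset.sum_add_distrib]; exact Finset.sum_congr rfl fun i _ => by ring)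
    (fun k a c => by simp only [Pi.smul_apply, smul_eq_mul]; rw [Finset.mul_sum]; exact Finset.sum_congr rfl fun i _ => by ring)

theorem bl_apply (v w : Vec F n) :
    bl v w = ∑ i, (v (Sum.inl i) * w (Sum.inr i) - v (Sum.inr i) * w (Sum.inl i)) := rfl

theorem bl_alt (v : Vec F n) : bl v v = 0 := by
  rw [bl_apply]; exact Finset.sum_eq_zero fun i _ => by ring

theorem bl_J (v w : Vec F n) : bl v w = -(v ⬝ᵥ (Matrix.J (Fin n) F *ᵥ w)) := by
  rw [bl_apply, dotProduct, Fintype.sum_sum_type, Finset.sum_sub_distrib]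
  simp [Matrix.J, Matrix.mulVec, dotProduct, Fintype.sum_sum_type, Matrix.fromBlocks, Matrix.one_apply,
    Finset.sum_ite_eq]
  ring

/-- The vector `e_i`. -/
def eB (i : Fin n) : Vec F n := Pi.single (Sum.inl i) 1

/-- The vector `f_i`. -/
def fB (i : Fin n) : Vec F n := Pi.single (Sum.inr i) 1

theorem bl_eB_right (v : Vec F n) (i : Fin n) : bl v (eB i) = -v (Sum.inr i) := by
  simp [bl_apply, eB, Pi.single_apply]

theorem bl_fB_right (v : Vec F n) (i : Fin n) : bl v (fB i) = v (Sum.inl i) := by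
  simp [bl_apply, fB, Pi.single_apply]

theorem bl_eB_left (v : Vec F n) (i : Fin n) : bl (eB i) v = v (Sum.inr i) := by
  simp [bl_apply, eB, Pi.single_apply]

theorem bl_fB_left (v : Vec F n) (i : Fin n) : bl (fB i) v = -v (Sum.inl i) := by
  simp [bl_apply, fB, Pi.single_apply]

theorem exists_dual_vec {v : Vec F n} (hv : v ≠ 0) : ∃ w, bl w v = 1 := by
  obtain ⟨i, hi⟩ := Function.ne_iff.1 hv
  rcases i with i | i
  · refine ⟨-((v (Sum.inl i))⁻¹ • fB i), ?_⟩
    rw [map_neg, LinearMap.neg_apply, map_smul, LinearMap.smul_apply, bl_fB_left, smul_eq_mul, mul_neg, neg_neg]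
    exact inv_mul_cancel₀ hi
  · refine ⟨(v (Sum.inr i))⁻¹ • eB i, ?_⟩
    rw [map_smul, LinearMap.smul_apply, bl_eB_left, smul_eq_mul]
    exact inv_mul_cancel₀ hi

/-- The action of the symplectic group. -/
def αSp : Spn F n →* (Vec F n ≃ₗ[F] Vec F n) where
  toFun A :=
    { toFun := fun v => A.1 *ᵥ v
      map_add' := mulVec_add A.1
      map_smul' := fun c v => mulVec_smul A.1 c v
      invFun := fun v => (A⁻¹ : Spn F n).1 *ᵥ v
      left_inv := fun v => by
        show (A⁻¹ : Spn F n).1 *ᵥ (A.1 *ᵥ v) = v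
        rw [mulVec_mulVec]
        show ((A⁻¹ * A : Spn F n)).1 *ᵥ v = v
        rw [inv_mul_cancel]; exact one_mulVec v
      right_inv := fun v => by
        show A.1 *ᵥ ((A⁻¹ : Spn F n).1 *ᵥ v) = v
        rw [mulVec_mulVec]
        show ((A * A⁻¹ : Spn F n)).1 *ᵥ v = v
        rw [mul_inv_cancel]; exact one_mulVec v }
  map_one' := LinearEquiv.ext fun v => one_mulVec v
  map_mul' A B := LinearEquiv.ext fun v => (mulVec_mulVec v A.1 B.1).symm

theorem αSp_apply (A : Spn F n) (v : Vec F n) : αSp A v = A.1 *ᵥ v := rfl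

theorem αSp_injective : Function.Injective (αSp : Spn F n →* _) := fun A B h =>
  Subtype.ext (Matrix.mulVec_injective (funext fun v => LinearEquiv.congr_fun h v))

theorem αSp_mul (A B : Spn F n) (v : Vec F n) : αSp (A * B) v = αSp A (αSp B v) := by rw [map_mul]; rfl

theorem αSp_inv (A : Spn F n) (v : Vec F n) : αSp A⁻¹ (αSp A v) = v := by
  rw [← αSp_mul, inv_mul_cancel, map_one]; rfl

theorem αSp_bl (A : Spn F n) (v w : Vec F n) : bl (αSp A v) (αSp A w) = bl v w := by
  rw [bl_J, bl_J, αSp_apply, αSp_apply, mulVec_mulVec, ← vecMul_transpose, dotProduct_mulVec, vecMul_vecMul,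
    ← mul_assoc, SymplecticGroup.mem_iff'.1 A.2, ← dotProduct_mulVec]

/-- A symplectic linear map as a group element. -/
def ofLin (L : Vec F n →ₗ[F] Vec F n) (h : ∀ v w, bl (L v) (L w) = bl v w) : Spn F n :=
  ⟨LinearMap.toMatrix' L, by
    rw [SymplecticGroup.mem_iff']
    ext i j
    have hij := h (Pi.single i 1) (Pi.single j 1)
    rw [bl_J, bl_J, neg_inj, ← Matrix.toLin'_toMatrix' L, Matrix.toLin'_apply, Matrix.toLin'_apply,
      mulVec_mulVec, ← vecMul_transpose, dotProduct_mulVec, vecMul_vecMul, ← mul_assoc] at hij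
    simpa [← dotProduct_mulVec] using hij⟩

theorem αSp_ofLin (L : Vec F n →ₗ[F] Vec F n) (h : ∀ v w, bl (L v) (L w) = bl v w) (v : Vec F n) :
    αSp (ofLin L h) v = L v := by
  rw [αSp_apply]; show LinearMap.toMatrix' L *ᵥ v = _
  rw [← Matrix.toLin'_apply, Matrix.toLin'_toMatrix']

/-- The splitting of the first plane. -/
def split : Vec F (n + 1) ≃ₗ[F] (F × F) × Vec F n where
  toFun v := ((v (Sum.inl 0), v (Sum.inr 0)), Sum.elim (fun i => v (Sum.inl i.succ)) (fun i => v (Sum.inr i.succ)))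
  invFun x := Sum.elim (Fin.cons x.1.1 fun i => x.2 (Sum.inl i)) (Fin.cons x.1.2 fun i => x.2 (Sum.inr i))
  map_add' u v := by
    refine Prod.ext rfl (funext fun i => ?_)
    rcases i with i | i <;> rfl
  map_smul' c v := by
    refine Prod.ext rfl (funext fun i => ?_)
    rcases i with i | i <;> rfl
  left_inv v := by
    funext i
    rcases i with i | i <;> refine Fin.cases ?_ (fun j => ?_) i <;> rfl
  right_inv x := by
    refine Prod.ext rfl (funext fun i => ?_)
    rcases i with i | i <;> rfl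

/-- The form on the split space. -/
def blW (x y : (F × F) × Vec F n) : F := x.1.1 * y.1.2 - x.1.2 * y.1.1 + bl x.2 y.2

theorem bl_split (v w : Vec F (n + 1)) : bl v w = blW (split v) (split w) := by
  rw [bl_apply, Fin.sum_univ_succ, blW, bl_apply]; rfl

/-- A symplectic map given on the split space. -/
def ofW (L : (F × F) × Vec F n →ₗ[F] (F × F) × Vec F n) (h : ∀ x y, blW (L x) (L y) = blW x y) : Spn F (n + 1) :=
  ofLin (split.symm.toLinearMap ∘ₗ L ∘ₗ split.toLinearMap) fun v w => by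
    rw [bl_split, bl_split v w]; simp [h]

theorem αW_ofW (L : (F × F) × Vec F n →ₗ[F] (F × F) × Vec F n) (h : ∀ x y, blW (L x) (L y) = blW x y)
    (v : Vec F (n + 1)) : split (αSp (ofW L h) v) = L (split v) := by
  rw [ofW, αSp_ofLin]; simp

/-- The action on the split space. -/
def ρW : Spn F (n + 1) →* Equiv.Perm ((F × F) × Vec F n) where
  toFun A := split.symm.toEquiv.trans ((αSp A).toEquiv.trans split.toEquiv)
  map_one' := Equiv.ext fun x => by simp
  map_mul' A B := Equiv.ext fun x => by simp [αSp_mul]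

theorem ρW_apply (A : Spn F (n + 1)) (x : (F × F) × Vec F n) : ρW A x = split (αSp A (split.symm x)) := rfl

theorem ρW_injective : Function.Injective (ρW : Spn F (n + 1) →* _) := fun A B h => αSp_injective <|
  LinearEquiv.ext fun v => split.injective (by
    have := Equiv.ext_iff.1 h (split v)
    rwa [ρW_apply, ρW_apply, LinearEquiv.symm_apply_apply] at this)

theorem ρW_ofW (L : (F × F) × Vec F n →ₗ[F] (F × F) × Vec F n) (h : ∀ x y, blW (L x) (L y) = blW x y)
    (x : (F × F) × Vec F n) : ρW (ofW L h) x = L x := by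
  rw [ρW_apply, αW_ofW, LinearEquiv.apply_symm_apply]

/-- The map attached to an element of the plane group. -/
def sLin (s : SpecialLinearGroup (Fin 2) F) : (F × F) × Vec F n →ₗ[F] (F × F) × Vec F n where
  toFun x := (act2 s x.1, x.2)
  map_add' x y := by ext <;> simp [act2] <;> ring
  map_smul' c x := by ext <;> simp [act2] <;> ring

theorem sLin_apply (s : SpecialLinearGroup (Fin 2) F) (x : (F × F) × Vec F n) :
    sLin s x = (act2 s x.1, x.2) := rfl

theorem sLin_bl (s : SpecialLinearGroup (Fin 2) F) (x y : (F × F) × Vec F n) :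
    blW (sLin s x) (sLin s y) = blW x y := by
  rw [sLin_apply, sLin_apply, blW, blW]
  simp only [act2]
  linear_combination (x.1.1 * y.1.2 - x.1.2 * y.1.1) * sl_det s

/-- The map attached to an element of the smaller group. -/
def eLin (g : Spn F n) : (F × F) × Vec F n →ₗ[F] (F × F) × Vec F n :=
  LinearMap.id.prodMap (αSp g).toLinearMap

theorem eLin_apply (g : Spn F n) (x : (F × F) × Vec F n) : eLin g x = (x.1, αSp g x.2) := rfl

theorem eLin_bl (g : Spn F n) (x y : (F × F) × Vec F n) : blW (eLin g x) (eLin g y) = blW x y := by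
  rw [eLin_apply, eLin_apply, blW, blW, αSp_bl]

/-- The plane. -/
def sPl : SpecialLinearGroup (Fin 2) F →* Spn F (n + 1) where
  toFun s := ofW (sLin s) (sLin_bl s)
  map_one' := ρW_injective <| Equiv.ext fun x => by
    rw [ρW_ofW, sLin_apply]; simp [act2]
  map_mul' s t := ρW_injective <| Equiv.ext fun x => by
    rw [map_mul ρW, Equiv.Perm.mul_apply, ρW_ofW, ρW_ofW, ρW_ofW, sLin_apply, sLin_apply, sLin_apply]
    ext <;> simp [act2, sl_mul] <;> ring

theorem ρ_sPl (s : SpecialLinearGroup (Fin 2) F) (p : F × F) (v : Vec F n) :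
    ρW (sPl s) (p, v) = (act2 s p, v) := ρW_ofW _ (sLin_bl s) _

/-- The embedding of the smaller group. -/
def emb : Spn F n →* Spn F (n + 1) where
  toFun g := ofW (eLin g) (eLin_bl g)
  map_one' := ρW_injective <| Equiv.ext fun x => by
    rw [ρW_ofW, eLin_apply]; simp
  map_mul' g h := ρW_injective <| Equiv.ext fun x => by
    rw [map_mul ρW, Equiv.Perm.mul_apply, ρW_ofW, ρW_ofW, ρW_ofW, eLin_apply, eLin_apply, eLin_apply, αSp_mul]

theorem ρ_emb (g : Spn F n) (p : F × F) (v : Vec F n) : ρW (emb g) (p, v) = (p, αSp g v) :=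
  ρW_ofW _ (eLin_bl g) _

/-- The short root element attached to a vector. -/
def qEl (u : Vec F n) : Spn F (n + 1) := ofW
  { toFun := fun x => ((x.1.1 + bl u x.2, x.1.2), x.2 + x.1.2 • u)
    map_add' := fun x y => by
      refine Prod.ext (Prod.ext ?_ rfl) ?_
      · simp; ring
      · simp; module
    map_smul' := fun c x => by
      refine Prod.ext (Prod.ext ?_ rfl) ?_
      · simp; ring
      · simp; module }
  fun x y => by
    show (x.1.1 + bl u x.2) * y.1.2 - x.1.2 * (y.1.1 + bl u y.2) + bl (x.2 + x.1.2 • u) (y.2 + y.1.2 • u) = _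
    simp only [blW, map_add, map_smul, LinearMap.add_apply, LinearMap.smul_apply, smul_eq_mul, bl_alt]
    have hs : bl x.2 u = -bl u x.2 := by
      have := bl_alt (x.2 + u)
      simp only [map_add, LinearMap.add_apply, bl_alt] at this
      linear_combination this
    linear_combination y.1.2 * hs

theorem ρ_qEl (u : Vec F n) (p : F × F) (v : Vec F n) :
    ρW (qEl u) (p, v) = ((p.1 + bl u v, p.2), v + p.2 • u) := by
  exact ρW_ofW _ _ _

theorem ρW_bl (A : Spn F (n + 1)) (x y : (F × F) × Vec F n) : blW (ρW A x) (ρW A y) = blW x y := by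
  rw [ρW_apply, ρW_apply, ← bl_split, αSp_bl, bl_split]; simp

theorem ρW_lin (A : Spn F (n + 1)) (x y : (F × F) × Vec F n) (c : F) :
    ρW A (x + c • y) = ρW A x + c • ρW A y := by
  simp [ρW_apply]

theorem emb_qEl (g : Spn F n) (u : Vec F n) : emb g * qEl u * (emb g)⁻¹ = qEl (αSp g u) := by
  rw [mul_inv_eq_iff_eq_mul]
  refine ρW_injective <| Equiv.ext fun ⟨p, v⟩ => ?_
  simp only [map_mul, Equiv.Perm.mul_apply, ρ_emb, ρ_qEl, αSp_bl, map_add, map_smul]

theorem qEl_zero : qEl (0 : Vec F n) = 1 :=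
  ρW_injective <| Equiv.ext fun ⟨p, v⟩ => by rw [ρ_qEl, map_one]; simp

theorem sPl_a (d : F) (p : F × F) (v : Vec F n) : ρW (sPl (sa d)) (p, v) = ((p.1 + d * p.2, p.2), v) := by
  rw [ρ_sPl]; simp [act2, sa, mk2_apply]

/-- An element fixing the plane comes from the smaller group. -/
theorem exists_emb {A : Spn F (n + 1)} (h1 : ρW A ((1, 0), 0) = ((1, 0), 0))
    (h2 : ρW A ((0, 1), 0) = ((0, 1), 0)) : ∃ g, A = emb g := by
  have key : ∀ v : Vec F n, (ρW A ((0, 0), v)).1 = (0, 0) := fun v => by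
    have e1 := ρW_bl A ((1, 0), 0) ((0, 0), v)
    have e2 := ρW_bl A ((0, 1), 0) ((0, 0), v)
    rw [h1] at e1; rw [h2] at e2
    simp [blW] at e1 e2
    exact Prod.ext e2 e1
  let L : Vec F n →ₗ[F] Vec F n :=
    (LinearMap.snd F (F × F) (Vec F n)) ∘ₗ split.toLinearMap ∘ₗ (αSp A).toLinearMap ∘ₗ split.symm.toLinearMap ∘ₗ
      LinearMap.inr F (F × F) (Vec F n)
  have hL : ∀ v, ρW A ((0, 0), v) = ((0, 0), L v) := fun v => Prod.ext (key v) rfl
  refine ⟨ofLin L fun v w => ?_, ρW_injective <| Equiv.ext fun x => ?_⟩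
  · have := ρW_bl A ((0, 0), v) ((0, 0), w)
    rw [hL, hL] at this
    simpa [blW] using this
  · obtain ⟨⟨a, c⟩, v⟩ := x
    have e : (((a, c), v) : (F × F) × Vec F n) = ((0, 0), v) + a • ((1, 0), 0) + c • ((0, 1), 0) := by simp
    rw [ρ_emb, αSp_ofLin]
    conv_lhs => rw [e]
    rw [ρW_lin, ρW_lin, h1, h2, hL]
    simp

theorem split_eB_zero : split (eB 0 : Vec F (n + 1)) = ((1, 0), 0) := by
  refine Prod.ext (Prod.ext ?_ ?_) (funext fun i => ?_)
  · simp [split, eB]
  · simp [split, eB]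
  · rcases i with i | i <;> simp [split, eB]

/-- Generators of a transitive subgroup. -/
def transGen : Subgroup (Spn F (n + 1)) :=
  Subgroup.closure (Set.range (sPl (F := F) (n := n)) ∪ Set.range (qEl (F := F) (n := n)))

theorem sPl_mem (s : SpecialLinearGroup (Fin 2) F) : (sPl s : Spn F (n + 1)) ∈ transGen :=
  Subgroup.subset_closure (Or.inl ⟨s, rfl⟩)

theorem qEl_mem (u : Vec F n) : (qEl u : Spn F (n + 1)) ∈ transGen :=
  Subgroup.subset_closure (Or.inr ⟨u, rfl⟩)

theorem trans_split {n : ℕ} (x : (F × F) × Vec F n) (hx : x ≠ 0) : ∃ g ∈ transGen, ρW g ((1, 0), 0) = x := by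
  have hpl : ∀ (p : F × F) (u : Vec F n), p ≠ 0 → ∃ g ∈ transGen, ρW g ((1, 0), 0) = (p, u) := by
    intro p u hp
    obtain ⟨s, hs⟩ : ∃ s : SpecialLinearGroup (Fin 2) F, act2 s (1, 0) = p := by
      by_cases h : p.1 = 0
      · have h2 : p.2 ≠ 0 := fun e0 => hp (Prod.ext h e0)
        exact ⟨mk2 p.1 (-p.2⁻¹) p.2 0 (by field_simp; ring), by simp [act2, mk2_apply]⟩
      · exact ⟨mk2 p.1 0 p.2 p.1⁻¹ (by field_simp; ring), by simp [act2, mk2_apply]⟩
    refine ⟨sPl s * (sPl sw * qEl (-u) * (sPl sw)⁻¹),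
      mul_mem (sPl_mem s) (mul_mem (mul_mem (sPl_mem sw) (qEl_mem (-u))) (inv_mem (sPl_mem sw))), ?_⟩
    simp only [map_mul, Equiv.Perm.mul_apply, ← map_inv sPl, sw_inv, ρ_sPl, ρ_qEl]
    rw [show act2 (mk2 0 1 (-1) 0 (by ring) : SpecialLinearGroup (Fin 2) F) (1, 0) = (0, -1) by simp [act2, mk2_apply]]
    simp [act2, sw, mk2_apply] at hs ⊢
    exact hs
  obtain ⟨p, u⟩ := x
  by_cases hp : p = 0
  · subst hp
    obtain ⟨w, hw⟩ := exists_dual_vec (v := u) (fun e0 => hx (by rw [e0]; rfl))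
    obtain ⟨g, hgK, hg⟩ := hpl (-1, 0) u (by simp)
    exact ⟨qEl w * g, mul_mem (qEl_mem w) hgK, by simp [map_mul, hg, ρ_qEl, hw]⟩
  · exact hpl p u hp

/-- The symplectic group is transitive on non-zero vectors. -/
theorem trans_vec {n : ℕ} (v : Vec F (n + 1)) (hv : v ≠ 0) : ∃ g, αSp g (eB 0) = v := by
  obtain ⟨g, -, hg⟩ := trans_split (split v) (by simpa using hv)
  refine ⟨g, split.injective ?_⟩
  rw [← hg, ρW_apply, ← split_eB_zero, LinearEquiv.symm_apply_apply]

/-- Elements fixing the first basis vector. -/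
theorem exists_stab {A : Spn F (n + 1)} (h : ρW A ((1, 0), 0) = ((1, 0), 0)) :
    ∃ u d g, A = qEl u * sPl (sa d) * emb g := by
  obtain ⟨⟨⟨a, c⟩, u⟩, hu⟩ : ∃ x, ρW A ((0, 1), 0) = x := ⟨_, rfl⟩
  have hc : c = 1 := by
    have e := ρW_bl A ((1, 0), 0) ((0, 1), 0)
    rw [h, hu] at e
    simpa [blW] using e
  subst hc
  obtain ⟨g, hg⟩ := exists_emb (A := (qEl u * sPl (sa a))⁻¹ * A)
    (by
      rw [map_mul, Equiv.Perm.mul_apply, h, map_inv, Equiv.Perm.inv_def, Equiv.symm_apply_eq, map_mul,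
        Equiv.Perm.mul_apply, sPl_a, ρ_qEl]
      simp)
    (by
      rw [map_mul, Equiv.Perm.mul_apply, hu, map_inv, Equiv.Perm.inv_def, Equiv.symm_apply_eq, map_mul,
        Equiv.Perm.mul_apply, sPl_a, ρ_qEl]
      simp)
  exact ⟨u, a, g, by rw [← hg]; group⟩

/-- The symplectic group is transitive on hyperbolic pairs. -/
theorem trans_pair (v w : Vec F (n + 1)) (h : bl v w = 1) : ∃ g, αSp g (eB 0) = v ∧ αSp g (fB 0) = w := by
  have hv : v ≠ 0 := fun e0 => by rw [e0, map_zero, LinearMap.zero_apply] at h; exact zero_ne_one h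
  obtain ⟨g, hg⟩ := trans_vec v hv
  set x := split (αSp g⁻¹ w) with hx
  have hxc : x.1.2 = 1 := by
    have e : bl (eB 0) (αSp g⁻¹ w) = 1 := by
      rw [← αSp_bl g, hg, ← αSp_mul, mul_inv_cancel, map_one]; exact h
    rw [bl_eB_left] at e
    exact e
  have hf : split (fB 0 : Vec F (n + 1)) = ((0, 1), 0) := by
    refine Prod.ext (Prod.ext ?_ ?_) (funext fun i => ?_)
    · simp [split, fB]
    · simp [split, fB]
    · rcases i with i | i <;> simp [split, fB]
  refine ⟨g * (qEl x.2 * sPl (sa x.1.1)), ?_, ?_⟩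
  · rw [αSp_mul]
    conv_rhs => rw [← hg]
    congr 1
    apply split.injective
    have := ρW_apply (qEl x.2 * sPl (sa x.1.1)) ((1, 0), 0)
    rw [← split_eB_zero, LinearEquiv.symm_apply_apply] at this
    rw [← this, split_eB_zero, map_mul, Equiv.Perm.mul_apply, sPl_a, ρ_qEl]
    simp
  · rw [αSp_mul]
    conv_rhs => rw [← (αSp g).apply_symm_apply w]
    congr 1
    apply split.injective
    have := ρW_apply (qEl x.2 * sPl (sa x.1.1)) ((0, 1), 0)
    rw [← hf, LinearEquiv.symm_apply_apply] at this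
    rw [← this, hf, map_mul, Equiv.Perm.mul_apply, sPl_a, ρ_qEl]
    have e2 : (αSp g).symm w = αSp g⁻¹ w := rfl
    rw [e2, ← hx]
    refine Prod.ext (Prod.ext ?_ ?_) ?_ <;> simp [hxc]

end CfsgLib.SpPres
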