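import Mathlib.LinearAlgebra.Matrix.SpecialLinearGroup
import Mathlib.LinearAlgebra.BilinearMap
import Mathlib.Tactic.LinearCombination
import Mathlib.Tactic.Module
import Mathlib.Tactic.Group

/-!
The inductive step for presentations of symplectic groups: a group generated by a copy of `Sp(V)`, a
commuting copy of `SL₂` and one short root subgroup, with rank two relations only, acts faithfully
on `F² ⊕ V`.
-/

set_option autoImplicit false

namespace CfsgLib.SpPres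

open Matrix

universe uF uV uG uE

/-- Entries of the four standard elements of `SL₂`. -/
def mk2 {F : Type*} [Field F] (a b c d : F) (h : a * d - b * c = 1) : SpecialLinearGroup (Fin 2) F :=
  ⟨!![a, b; c, d], by rw [det_fin_two_of, h]⟩

variable {F : Type uF} [Field F]

/-- Upper root element. -/
def sa (d : F) : SpecialLinearGroup (Fin 2) F := mk2 1 d 0 1 (by ring)

/-- Lower root element. -/
def sb (d : F) : SpecialLinearGroup (Fin 2) F := mk2 1 0 d 1 (by ring)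

/-- Weyl element. -/
def sw : SpecialLinearGroup (Fin 2) F := mk2 0 (-1) 1 0 (by ring)

/-- Torus element. -/
def sh (l : Fˣ) : SpecialLinearGroup (Fin 2) F := mk2 (l : F) 0 0 ((l⁻¹ : Fˣ) : F) (by simp)

theorem sl_ext {s t : SpecialLinearGroup (Fin 2) F} (h00 : s.1 0 0 = t.1 0 0) (h01 : s.1 0 1 = t.1 0 1)
    (h10 : s.1 1 0 = t.1 1 0) (h11 : s.1 1 1 = t.1 1 1) : s = t := by
  refine Subtype.ext (Matrix.ext fun i j => ?_)
  fin_cases i <;> fin_cases j <;> assumption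

theorem mk2_apply (a b c d : F) (h : a * d - b * c = 1) (i j : Fin 2) :
    (mk2 a b c d h).1 i j = !![a, b; c, d] i j := rfl

theorem sw_inv : (sw : SpecialLinearGroup (Fin 2) F)⁻¹ = mk2 0 1 (-1) 0 (by ring) := by
  rw [inv_eq_iff_mul_eq_one]
  refine Subtype.ext ?_
  show (!![0, -1; 1, 0] : Matrix (Fin 2) (Fin 2) F) * !![0, 1; -1, 0] = 1
  rw [Matrix.mul_fin_two, Matrix.one_fin_two]; simp

theorem sl_mul (s t : SpecialLinearGroup (Fin 2) F) (i j : Fin 2) :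
    (s * t).1 i j = s.1 i 0 * t.1 0 j + s.1 i 1 * t.1 1 j := by
  show (s.1 * t.1) i j = _
  rw [Matrix.mul_apply, Fin.sum_univ_two]

/-- The natural action on pairs. -/
def act2 (s : SpecialLinearGroup (Fin 2) F) (p : F × F) : F × F :=
  (s.1 0 0 * p.1 + s.1 0 1 * p.2, s.1 1 0 * p.1 + s.1 1 1 * p.2)

theorem sl_det (s : SpecialLinearGroup (Fin 2) F) : s.1 0 0 * s.1 1 1 - s.1 0 1 * s.1 1 0 = 1 := by
  rw [← Matrix.det_fin_two]; exact s.2

/-- `s` moves the first basis vector off its line. -/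
theorem exists_bruhat {s : SpecialLinearGroup (Fin 2) F} (h : s.1 1 0 ≠ 0) :
    ∃ d d' : F, s = sa d * sw * sh (Units.mk0 _ h) * sa d' := by
  refine ⟨s.1 0 0 / s.1 1 0, s.1 1 1 / s.1 1 0, ?_⟩
  have hd := sl_det s
  apply sl_ext <;> simp [sl_mul, sa, sw, sh, mk2_apply] <;> field_simp
  linear_combination -hd

theorem exists_borel {s : SpecialLinearGroup (Fin 2) F} (h : s.1 1 0 = 0) :
    ∃ (l : Fˣ) (d' : F), s = sh l * sa d' := by
  have hd := sl_det s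
  rw [h, mul_zero, sub_zero] at hd
  have h0 : s.1 0 0 ≠ 0 := left_ne_zero_of_mul_eq_one hd
  refine ⟨Units.mk0 _ h0, s.1 0 1 / s.1 0 0, ?_⟩
  apply sl_ext <;> simp [sl_mul, sa, sh, mk2_apply, h]
  · field_simp
  · exact eq_inv_of_mul_eq_one_right hd

theorem sa_mul (d d' : F) : sa d * sa d' = sa (d + d') := by
  apply sl_ext <;> simp [sl_mul, sa, mk2_apply, add_comm]

theorem sa_zero : sa (0 : F) = 1 := by
  apply sl_ext <;> simp [sa, mk2_apply]

theorem sb_eq (d : F) : sb d = sw * sa (-d) * sw⁻¹ := by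
  rw [eq_mul_inv_iff_mul_eq]
  apply sl_ext <;> simp [sl_mul, sa, sb, sw, mk2_apply]

theorem sw_sq : sw * sw = sh (-1 : Fˣ) := by
  apply sl_ext <;> simp [sl_mul, sw, sh, mk2_apply]

/-- The data of the step. -/
structure Step (F : Type uF) [Field F] (V : Type uV) [AddCommGroup V] [Module F V] (G : Type uG) [Group G]
    (E : Type uE) [Group E] where
  /-- the alternating form -/
  ω : V →ₗ[F] V →ₗ[F] F
  alt : ∀ v, ω v v = 0
  /-- the action of `G` -/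
  α : G →* (V ≃ₗ[F] V)
  α_inj : Function.Injective α
  α_ω : ∀ g v w, ω (α g v) (α g w) = ω v w
  /-- first vector of the base pair -/
  e : V
  /-- second vector of the base pair -/
  f : V
  ef : ω e f = 1
  trans : ∀ v : V, v ≠ 0 → ∃ g, α g e = v
  transPair : ∀ v w : V, ω v w = 1 → ∃ g, α g e = v ∧ α g f = w
  /-- the action on the big space -/
  ρ : E →* Equiv.Perm ((F × F) × V)
  /-- the copy of `G` -/
  φ : G →* E
  /-- the copy of `SL₂` -/
  σ : SpecialLinearGroup (Fin 2) F →* E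
  comm : ∀ g s, φ g * σ s = σ s * φ g
  /-- the short root subgroup -/
  R : F → E
  ρφ : ∀ g p v, ρ (φ g) (p, v) = (p, α g v)
  ρσ : ∀ s p v, ρ (σ s) (p, v) = (act2 s p, v)
  ρR : ∀ t p v, ρ (R t) (p, v) = ((p.1 + t * ω e v, p.2), v + (p.2 * t) • e)
  gen : Subgroup.closure (Set.range φ ∪ Set.range σ ∪ Set.range R) = ⊤
  R_add : ∀ t u, R (t + u) = R t * R u
  R_scale : ∀ (g : G) (c : F), α g e = c • e → ∀ t, φ g * R t * (φ g)⁻¹ = R (c * t)
  R_pair : ∀ c : F, c ≠ 0 → ∃ g g', α g e = c • f ∧ α g' e = e + c • f ∧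
    R 1 * (φ g * R 1 * (φ g)⁻¹) = φ g' * R 1 * (φ g')⁻¹ * σ (sa c)
  perp : (∃ c : F, c ≠ 0 ∧ c ≠ -1) ∨ ∀ w : V, (∀ c : F, w ≠ c • e) → ω e w = 0 →
    ∀ g g', α g e = w → α g' e = e + w → R 1 * (φ g * R 1 * (φ g)⁻¹) = φ g' * R 1 * (φ g')⁻¹
  R_up : ∀ d t, σ (sa d) * R t = R t * σ (sa d)
  R_tor : ∀ (l : Fˣ) (t : F), σ (sh l) * R t * (σ (sh l))⁻¹ = R (l * t)
  R_low : ∀ t : F, ∃ τ : G, (∀ x, α τ x = x + (t * ω e x) • e) ∧
    σ (sb t) * R 1 * (σ (sb t))⁻¹ = σ sw * R t * (σ sw)⁻¹ * φ τ * R 1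

namespace Step

variable {V : Type uV} [AddCommGroup V] [Module F V] {G : Type uG} [Group G] {E : Type uE} [Group E]
  (S : Step F V G E)

theorem α_mul (g h : G) (v : V) : S.α (g * h) v = S.α g (S.α h v) := by rw [map_mul]; rfl

theorem α_inv (g : G) (v : V) : S.α g⁻¹ (S.α g v) = v := by
  rw [← S.α_mul, inv_mul_cancel, map_one]; rfl

theorem skew (v w : V) : S.ω w v = -S.ω v w := by
  have h := S.alt (v + w)
  simp only [map_add, LinearMap.add_apply, S.alt v, S.alt w] at h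
  linear_combination h

theorem e_ne : S.e ≠ 0 := fun h => by
  have := S.ef
  rw [h, map_zero, LinearMap.zero_apply] at this
  exact zero_ne_one this

theorem R_zero : S.R 0 = 1 := by
  have := S.R_add 0 0
  rwa [add_zero, left_eq_mul] at this

open scoped Classical in
/-- The root element attached to a vector. -/
noncomputable def q (v : V) : E :=
  if h : v = 0 then 1 else S.φ (S.trans v h).choose * S.R 1 * (S.φ (S.trans v h).choose)⁻¹

theorem q_zero : S.q 0 = 1 := dif_pos rfl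

theorem q_eq {v : V} (hv : v ≠ 0) {g : G} (hg : S.α g S.e = v) : S.q v = S.φ g * S.R 1 * (S.φ g)⁻¹ := by
  rw [q, dif_neg hv]
  set g₀ := (S.trans v hv).choose
  have h0 : S.α g₀ S.e = v := (S.trans v hv).choose_spec
  have h1 : S.α (g⁻¹ * g₀) S.e = (1 : F) • S.e := by rw [one_smul, S.α_mul, h0, ← hg, S.α_inv]
  have h2 := S.R_scale _ 1 h1 1
  rw [one_mul, map_mul, map_inv] at h2
  calc S.φ g₀ * S.R 1 * (S.φ g₀)⁻¹
      = S.φ g * ((S.φ g)⁻¹ * S.φ g₀ * S.R 1 * ((S.φ g)⁻¹ * S.φ g₀)⁻¹) * (S.φ g)⁻¹ := by group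
    _ = _ := by rw [h2]

theorem cov (g : G) (v : V) : S.φ g * S.q v * (S.φ g)⁻¹ = S.q (S.α g v) := by
  by_cases hv : v = 0
  · subst hv; rw [map_zero, q_zero]; group
  obtain ⟨h, hh⟩ := S.trans v hv
  rw [S.q_eq hv hh, S.q_eq (by simpa using hv) (g := g * h) (by rw [S.α_mul, hh]), map_mul]
  group

theorem cov' (g : G) (v : V) : S.φ g * S.q v = S.q (S.α g v) * S.φ g := by
  rw [← S.cov]; group

theorem q_smul_e (c : F) : S.q (c • S.e) = S.R c := by
  by_cases hc : c = 0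
  · subst hc; rw [zero_smul, q_zero, S.R_zero]
  obtain ⟨g, hg⟩ := S.trans (c • S.e) (smul_ne_zero hc S.e_ne)
  rw [S.q_eq (smul_ne_zero hc S.e_ne) hg, S.R_scale g c hg, mul_one]

theorem ρq (u : V) (p : F × F) (v : V) : S.ρ (S.q u) (p, v) = ((p.1 + S.ω u v, p.2), v + p.2 • u) := by
  by_cases hu : u = 0
  · subst hu; simp [q_zero]
  obtain ⟨g, hg⟩ := S.trans u hu
  rw [S.q_eq hu hg, map_mul, map_mul, ← map_inv S.φ, Equiv.Perm.mul_apply, Equiv.Perm.mul_apply, S.ρφ, S.ρR,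
    S.ρφ]
  have e1 : S.ω S.e (S.α g⁻¹ v) = S.ω u v := by
    rw [← S.α_ω g, hg, ← S.α_mul, mul_inv_cancel, map_one]; rfl
  rw [map_add, map_smul, hg, e1, ← S.α_mul, mul_inv_cancel, map_one, one_mul, mul_one]
  rfl

/-- Abbreviation for the upper root elements of the plane. -/
def a (d : F) : E := S.σ (sa d)

theorem a_add (d d' : F) : S.a d * S.a d' = S.a (d + d') := by rw [a, a, a, ← map_mul, sa_mul]

theorem a_zero : S.a 0 = 1 := by rw [a, sa_zero, map_one]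

theorem σ_conj_q (s : SpecialLinearGroup (Fin 2) F) {u : V} {g : G} (hu : u ≠ 0) (hg : S.α g S.e = u) :
    S.σ s * S.q u * (S.σ s)⁻¹ = S.φ g * (S.σ s * S.R 1 * (S.σ s)⁻¹) * (S.φ g)⁻¹ := by
  have := S.comm g s
  calc S.σ s * S.q u * (S.σ s)⁻¹ = (S.σ s * S.φ g) * S.R 1 * (S.σ s * S.φ g)⁻¹ := by rw [S.q_eq hu hg]; group
    _ = (S.φ g * S.σ s) * S.R 1 * (S.φ g * S.σ s)⁻¹ := by rw [this]
    _ = _ := by group

theorem a_q (d : F) (u : V) : S.a d * S.q u = S.q u * S.a d := by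
  by_cases hu : u = 0
  · subst hu; rw [q_zero, mul_one, one_mul]
  obtain ⟨g, hg⟩ := S.trans u hu
  have := S.σ_conj_q (sa d) hu hg
  rw [S.R_up, mul_inv_cancel_right, ← S.q_eq hu hg] at this
  exact mul_inv_eq_iff_eq_mul.1 this

theorem h_q (l : Fˣ) (u : V) : S.σ (sh l) * S.q u = S.q ((l : F) • u) * S.σ (sh l) := by
  rw [← mul_inv_eq_iff_eq_mul]
  by_cases hu : u = 0
  · subst hu; rw [smul_zero, q_zero]; group
  obtain ⟨g, hg⟩ := S.trans u hu
  rw [S.σ_conj_q _ hu hg, S.R_tor, mul_one, ← S.q_smul_e, S.cov, map_smul, hg]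

/-- The defect in additivity. -/
def Add (v w : V) : Prop := S.q v * S.q w = S.q (v + w) * S.a (S.ω v w)

theorem add_smul_right (v : V) (c : F) : S.Add v (c • v) := by
  unfold Add
  rw [map_smul, S.alt, smul_zero, S.a_zero, mul_one]
  by_cases hv : v = 0
  · subst hv; simp [q_zero]
  obtain ⟨g, hg⟩ := S.trans v hv
  have e1 : v = S.α g ((1 : F) • S.e) := by rw [one_smul, hg]
  have e2 : c • v = S.α g (c • S.e) := by rw [map_smul, hg]
  have e3 : v + c • v = S.α g ((1 + c) • S.e) := by rw [map_smul, hg]; module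
  rw [e3, ← S.cov g ((1 + c) • S.e), q_smul_e, S.R_add]
  rw [e2, ← S.cov g (c • S.e), q_smul_e]
  conv_lhs => rw [e1, ← S.cov g ((1 : F) • S.e), q_smul_e]
  group

theorem add_of_ne {v w : V} (h : S.ω v w ≠ 0) : S.Add v w := by
  unfold Add
  set c := S.ω v w
  obtain ⟨g, hge, hgf⟩ := S.transPair v (c⁻¹ • w) (by rw [map_smul, smul_eq_mul, inv_mul_cancel₀ h])
  obtain ⟨g₁, g₂, h1, h2, hR⟩ := S.R_pair c h
  have ecf : c • S.f ≠ 0 := fun e0 => by
    have := congrArg (S.ω S.e) e0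
    rw [map_smul, S.ef, map_zero, smul_eq_mul, mul_one] at this
    exact h this
  have eef : S.e + c • S.f ≠ 0 := fun e0 => by
    have := congrArg (S.ω S.e) e0
    rw [map_add, map_smul, S.alt, S.ef, map_zero, smul_eq_mul, mul_one, zero_add] at this
    exact h this
  rw [← S.q_eq ecf h1, ← S.q_eq eef h2, ← S.q_smul_e 1, one_smul] at hR
  have hw : S.α g (c • S.f) = w := by rw [map_smul, hgf, smul_inv_smul₀ h]
  rw [← hge, ← hw, ← map_add, ← S.cov, ← S.cov, ← S.cov]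
  have hc : S.φ g * S.σ (sa c) = S.σ (sa c) * S.φ g := S.comm g _
  calc S.φ g * S.q S.e * (S.φ g)⁻¹ * (S.φ g * S.q (c • S.f) * (S.φ g)⁻¹)
      = S.φ g * (S.q S.e * S.q (c • S.f)) * (S.φ g)⁻¹ := by group
    _ = S.φ g * S.q (S.e + c • S.f) * (S.σ (sa c) * (S.φ g)⁻¹) := by rw [hR]; group
    _ = S.φ g * S.q (S.e + c • S.f) * ((S.φ g)⁻¹ * S.σ (sa c)) := by
        rw [show S.σ (sa c) * (S.φ g)⁻¹ = (S.φ g)⁻¹ * S.σ (sa c) by
          rw [mul_inv_eq_iff_eq_mul, mul_assoc, ← hc]; group]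
    _ = _ := by rw [a]; group

theorem exists_dual {v w : V} (hv : v ≠ 0) (hind : ∀ c : F, w ≠ c • v) (h : S.ω v w = 0) (c : F) :
    ∃ z, S.ω v z = c ∧ S.ω w z = 1 := by
  obtain ⟨g, rfl⟩ := S.trans v hv
  obtain ⟨w', rfl⟩ : ∃ w', S.α g w' = w := (S.α g).surjective w
  rw [S.α_ω] at h
  set a₀ := S.ω w' S.f
  have hw0 : w' - a₀ • S.e ≠ 0 := fun e0 => hind a₀ (by rw [← map_smul, ← sub_eq_zero.1 e0])
  obtain ⟨g', hg'⟩ := S.trans _ hw0
  set y := S.α g' S.f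
  have hy : S.ω (w' - a₀ • S.e) y = 1 := by rw [← hg', S.α_ω, S.ef]
  set y' := y - S.ω S.e y • S.f
  refine ⟨S.α g (c • S.f + (1 - c * a₀) • y'), ?_, ?_⟩
  · rw [S.α_ω]
    simp [y', S.ef]
  · rw [S.α_ω]
    simp only [map_sub, LinearMap.sub_apply, map_smul, LinearMap.smul_apply, smul_eq_mul] at hy
    simp only [y', map_add, map_sub, map_smul, smul_eq_mul]
    linear_combination (1 - c * a₀) * hy

theorem q_add (v w : V) : S.q v * S.q w = S.q (v + w) * S.a (S.ω v w) := by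
  by_cases h : S.ω v w = 0
  swap
  · exact S.add_of_ne h
  by_cases hv : v = 0
  · subst hv; simp [q_zero, a_zero]
  by_cases hd : ∃ c : F, w = c • v
  · obtain ⟨c, rfl⟩ := hd; exact S.add_smul_right v c
  push Not at hd
  obtain ⟨c, hc0, hc1⟩ | hperp := S.perp
  swap
  · obtain ⟨g, hg⟩ := S.trans v hv
    obtain ⟨w', rfl⟩ : ∃ w', S.α g w' = w := (S.α g).surjective w
    subst hg
    rw [S.α_ω] at h ⊢
    have hne : ∀ c : F, w' ≠ c • S.e := fun c e => hd c (by rw [e, map_smul])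
    have hw0 : w' ≠ 0 := fun e => hne 0 (by rw [e, zero_smul])
    have hs0 : S.e + w' ≠ 0 := fun e => hne (-1) (by rw [neg_one_smul]; exact eq_neg_of_add_eq_zero_right e)
    obtain ⟨g₁, h1⟩ := S.trans w' hw0
    obtain ⟨g₂, h2⟩ := S.trans _ hs0
    have hR := hperp w' hne h g₁ g₂ h1 h2
    rw [← S.q_eq hw0 h1, ← S.q_eq hs0 h2, ← S.q_smul_e 1, one_smul] at hR
    rw [h, S.a_zero, mul_one, ← map_add, ← S.cov, ← S.cov, ← S.cov, ← hR]
    group
  obtain ⟨z, hvz, hwz⟩ := S.exists_dual hv hd h c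
  -- `w = (w + z) + (-z)`
  have e1 : S.ω v (w + z) = c := by rw [map_add, h, hvz, zero_add]
  have e2 : S.ω (w + z) (-z) = -1 := by
    rw [map_neg, map_add, LinearMap.add_apply, hwz, S.alt, add_zero]
  have e3 : S.ω (v + (w + z)) (-z) = -(c + 1) := by
    rw [map_neg, map_add, LinearMap.add_apply, map_add, LinearMap.add_apply, hvz, hwz, S.alt, add_zero]
  have a1 : S.Add v (w + z) := S.add_of_ne (e1 ▸ hc0)
  have a2 : S.Add (w + z) (-z) := S.add_of_ne (by rw [e2]; simp)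
  have a3 : S.Add (v + (w + z)) (-z) := S.add_of_ne (by
    rw [e3, neg_ne_zero]; exact fun h0 => hc1 (eq_neg_of_add_eq_zero_left h0))
  unfold Add at a1 a2 a3
  rw [show v + (w + z) + -z = v + w by abel] at a3
  rw [show w + z + -z = w by abel] at a2
  rw [e1] at a1; rw [e2] at a2; rw [e3] at a3
  have k1 : S.q w = S.q (w + z) * S.q (-z) * (S.a (-1))⁻¹ := eq_mul_inv_of_mul_eq a2.symm
  calc S.q v * S.q w = (S.q v * S.q (w + z)) * S.q (-z) * (S.a (-1))⁻¹ := by rw [k1]; group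
    _ = S.q (v + (w + z)) * (S.a c * S.q (-z)) * (S.a (-1))⁻¹ := by rw [a1]; group
    _ = (S.q (v + (w + z)) * S.q (-z)) * S.a c * (S.a (-1))⁻¹ := by rw [S.a_q]; group
    _ = S.q (v + w) * (S.a (-(c + 1)) * S.a c) * (S.a (-1))⁻¹ := by rw [a3]; group
    _ = _ := by rw [S.a_add, show -(c + 1) + c = -1 by ring, h, S.a_zero]; group

theorem q_inv (v : V) : (S.q v)⁻¹ = S.q (-v) :=
  inv_eq_of_mul_eq_one_right (by rw [S.q_add, add_neg_cancel, map_neg, S.alt, neg_zero, a_zero, mul_one, q_zero])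

/-- The opposite root element. -/
noncomputable def qm (v : V) : E := S.σ sw * S.q v * (S.σ sw)⁻¹

theorem qm_cov (g : G) (v : V) : S.φ g * S.qm v = S.qm (S.α g v) * S.φ g := by
  have h := S.comm g sw
  calc S.φ g * S.qm v = (S.φ g * S.σ sw) * S.q v * (S.σ sw)⁻¹ := by rw [qm]; group
    _ = S.σ sw * (S.φ g * S.q v) * (S.σ sw)⁻¹ := by rw [h]; group
    _ = S.σ sw * S.q (S.α g v) * (S.φ g * (S.σ sw)⁻¹) := by rw [S.cov']; group
    _ = S.σ sw * S.q (S.α g v) * ((S.σ sw)⁻¹ * S.φ g) := by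
        rw [show S.φ g * (S.σ sw)⁻¹ = (S.σ sw)⁻¹ * S.φ g by rw [← map_inv]; exact S.comm g _]
    _ = _ := by rw [qm]; group

theorem qm_zero : S.qm 0 = 1 := by rw [qm, q_zero]; group

theorem qm_inv (v : V) : (S.qm v)⁻¹ = S.qm (-v) := by rw [qm, qm, ← S.q_inv]; group

/-- Abbreviation for the lower root elements of the plane. -/
def b (d : F) : E := S.σ (sb d)

theorem b_eq (d : F) : S.b d = S.σ sw * S.a (-d) * (S.σ sw)⁻¹ := by
  rw [b, sb_eq, map_mul, map_mul, map_inv]; rfl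

theorem b_qm (d : F) (v : V) : S.b d * S.qm v = S.qm v * S.b d := by
  have h := S.a_q (-d) v
  calc S.b d * S.qm v = S.σ sw * (S.a (-d) * S.q v) * (S.σ sw)⁻¹ := by rw [qm, S.b_eq]; group
    _ = _ := by rw [h, qm, S.b_eq]; group

theorem qm_add (v w : V) : S.qm v * S.qm w = S.qm (v + w) * S.b (-S.ω v w) := by
  calc S.qm v * S.qm w = S.σ sw * (S.q v * S.q w) * (S.σ sw)⁻¹ := by rw [qm, qm]; group
    _ = _ := by rw [S.q_add, qm, b_eq, neg_neg]; group

theorem h_qm (l : Fˣ) (u : V) : S.σ (sh l) * S.qm u = S.qm (((l⁻¹ : Fˣ) : F) • u) * S.σ (sh l) := by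
  have e1 : sh l * sw = sw * sh l⁻¹ := by apply sl_ext <;> simp [sl_mul, sw, sh, mk2_apply]
  have e2 : (sw : SpecialLinearGroup (Fin 2) F)⁻¹ * sh l = sh l⁻¹ * sw⁻¹ := by
    rw [inv_mul_eq_iff_eq_mul, ← mul_assoc, ← e1, mul_inv_cancel_right]
  calc S.σ (sh l) * S.qm u = S.σ (sh l * sw) * S.q u * (S.σ sw)⁻¹ := by rw [qm, map_mul]; group
    _ = S.σ sw * (S.σ (sh l⁻¹) * S.q u) * (S.σ sw)⁻¹ := by rw [e1, map_mul]; group
    _ = S.σ sw * S.q (((l⁻¹ : Fˣ) : F) • u) * (S.σ (sh l⁻¹) * (S.σ sw)⁻¹) := by rw [S.h_q]; group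
    _ = S.σ sw * S.q (((l⁻¹ : Fˣ) : F) • u) * ((S.σ sw)⁻¹ * S.σ (sh l)) := by
        rw [← map_inv, ← map_mul, ← map_mul, e2]
    _ = _ := by rw [qm]; group

theorem ρqm (u : V) (p : F × F) (v : V) : S.ρ (S.qm u) (p, v) = ((p.1, p.2 + S.ω u v), v - p.1 • u) := by
  rw [qm, map_mul, map_mul, ← map_inv S.σ, Equiv.Perm.mul_apply, Equiv.Perm.mul_apply, S.ρσ, S.ρq, S.ρσ]
  simp only [sw_inv]
  simp [act2, sw, mk2_apply, sub_eq_add_neg, add_comm]

theorem ρb (d : F) (p : F × F) (v : V) : S.ρ (S.b d) (p, v) = ((p.1, d * p.1 + p.2), v) := by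
  rw [b, S.ρσ]; simp [act2, sb, mk2_apply]

/-- Conjugation of a root element by a lower root element. -/
theorem low (t : F) (u : V) : ∃ τ : G, (∀ x, S.α τ x = x + (t * S.ω u x) • u) ∧
    S.b t * S.q u * (S.b t)⁻¹ = S.qm (t • u) * S.φ τ * S.q u := by
  by_cases hu : u = 0
  · subst hu
    exact ⟨1, fun x => by simp, by rw [smul_zero, q_zero, qm_zero, map_one]; group⟩
  obtain ⟨g, hg⟩ := S.trans u hu
  obtain ⟨τ, hτ, hR⟩ := S.R_low t
  refine ⟨g * τ * g⁻¹, fun x => ?_, ?_⟩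
  · have e1 : S.ω S.e (S.α g⁻¹ x) = S.ω u x := by
      rw [← S.α_ω g, hg, ← S.α_mul, mul_inv_cancel, map_one]; rfl
    rw [S.α_mul, S.α_mul, hτ, map_add, map_smul, hg, e1, ← S.α_mul, mul_inv_cancel, map_one]; rfl
  · have e2 : S.φ g * (S.σ sw * S.R t * (S.σ sw)⁻¹) * (S.φ g)⁻¹ = S.qm (t • u) := by
      have := S.qm_cov g (t • S.e)
      rw [map_smul, hg] at this
      rw [← mul_inv_eq_iff_eq_mul.2 this, qm, q_smul_e]
    rw [b, S.σ_conj_q (sb t) hu hg, hR, ← e2, S.q_eq hu hg, map_mul, map_mul, map_inv]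
    group

/-- The stabiliser of the first basis vector. -/
def B : Subgroup E where
  carrier := {x | ∃ u d g, x = S.q u * S.a d * S.φ g}
  one_mem' := ⟨0, 0, 1, by rw [q_zero, a_zero, map_one]; group⟩
  mul_mem' := by
    rintro _ _ ⟨u, d, g, rfl⟩ ⟨u', d', g', rfl⟩
    refine ⟨u + S.α g u', S.ω u (S.α g u') + (d + d'), g * g', ?_⟩
    calc S.q u * S.a d * S.φ g * (S.q u' * S.a d' * S.φ g')
        = S.q u * S.a d * (S.φ g * S.q u') * S.a d' * S.φ g' := by group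
      _ = S.q u * (S.a d * S.q (S.α g u')) * (S.φ g * S.a d') * S.φ g' := by rw [S.cov']; group
      _ = (S.q u * S.q (S.α g u')) * (S.a d * S.a d') * (S.φ g * S.φ g') := by
          rw [S.a_q, show S.φ g * S.a d' = S.a d' * S.φ g from S.comm g _]; group
      _ = _ := by rw [S.q_add, S.a_add, mul_assoc (S.q _) (S.a _) (S.a _), S.a_add, map_mul]
  inv_mem' := by
    rintro _ ⟨u, d, g, rfl⟩
    refine ⟨S.α g⁻¹ (-u), -d, g⁻¹, ?_⟩
    have ha : (S.a d)⁻¹ = S.a (-d) := inv_eq_of_mul_eq_one_right (by rw [S.a_add, add_neg_cancel, a_zero])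
    calc (S.q u * S.a d * S.φ g)⁻¹ = S.φ g⁻¹ * (S.a d)⁻¹ * (S.q u)⁻¹ := by rw [map_inv]; group
      _ = S.φ g⁻¹ * S.q (-u) * S.a (-d) := by rw [ha, S.q_inv, mul_assoc, S.a_q]; group
      _ = _ := by rw [S.cov', mul_assoc, show S.φ g⁻¹ * S.a (-d) = S.a (-d) * S.φ g⁻¹ from S.comm _ _]; group

theorem q_mem (u : V) : S.q u ∈ S.B := ⟨u, 0, 1, by rw [a_zero, map_one]; group⟩
theorem a_mem (d : F) : S.a d ∈ S.B := ⟨0, d, 1, by rw [q_zero, map_one]; group⟩
theorem φ_mem (g : G) : S.φ g ∈ S.B := ⟨0, 0, g, by rw [q_zero, a_zero]; group⟩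

theorem w_qm (v : V) : S.σ sw * S.qm v = S.q (-v) * S.σ sw := by
  have h2 : S.σ sw * S.σ sw = S.σ (sh (-1 : Fˣ)) := by rw [← map_mul, sw_sq]
  have h3 : S.σ (sh (-1 : Fˣ)) * S.q v = S.q (-v) * S.σ (sh (-1 : Fˣ)) := by rw [S.h_q]; simp
  calc S.σ sw * S.qm v = S.σ sw * S.σ sw * S.q v * (S.σ sw)⁻¹ := by rw [qm]; group
    _ = S.q (-v) * S.σ (sh (-1 : Fˣ)) * (S.σ sw)⁻¹ := by rw [h2, h3]
    _ = _ := by rw [← h2]; group

theorem q_w (v : V) : S.q v * S.σ sw = S.σ sw * S.qm (-v) := by rw [S.w_qm, neg_neg]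

/-- An upper root element of the plane keeps the coset of an opposite root element. -/
theorem a_qm (d : F) (u : V) : ∃ x ∈ S.B, S.a d * S.qm u = S.qm u * x := by
  obtain ⟨τ, -, h⟩ := S.low (-d) (-u)
  refine ⟨(S.φ τ)⁻¹ * S.q (d • u) * S.a d, mul_mem (mul_mem (inv_mem (S.φ_mem τ)) (S.q_mem _)) (S.a_mem d), ?_⟩
  have hw : S.σ sw * S.b (-d) = S.a d * S.σ sw := by
    rw [b, a, ← map_mul, ← map_mul]
    congr 1
    apply sl_ext <;> simp [sl_mul, sa, sb, sw, mk2_apply]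
  rw [show (-d) • -u = d • u by module] at h
  have hq : S.σ sw * S.q (-u) * (S.σ sw)⁻¹ = S.qm (-u) := rfl
  have key : S.a d * S.qm (-u) * (S.a d)⁻¹ = S.q (-(d • u)) * S.φ τ * S.qm (-u) := by
    calc S.a d * S.qm (-u) * (S.a d)⁻¹
        = (S.a d * S.σ sw) * S.q (-u) * (S.a d * S.σ sw)⁻¹ := by rw [qm]; group
      _ = S.σ sw * (S.b (-d) * S.q (-u) * (S.b (-d))⁻¹) * (S.σ sw)⁻¹ := by rw [← hw]; group
      _ = (S.σ sw * S.qm (d • u)) * S.φ τ * S.q (-u) * (S.σ sw)⁻¹ := by rw [h]; group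
      _ = S.q (-(d • u)) * (S.φ τ * S.σ sw)⁻¹⁻¹ * (S.σ sw)⁻¹ * (S.σ sw * S.q (-u) * (S.σ sw)⁻¹) := by
          rw [S.w_qm, S.comm τ sw]; group
      _ = _ := by rw [hq, inv_inv]; group
  have k2 := congrArg (·⁻¹) key
  simp only [mul_inv_rev, inv_inv, S.qm_inv, S.q_inv, neg_neg] at k2
  calc S.a d * S.qm u = (S.a d * (S.qm u * (S.a d)⁻¹)) * S.a d := by group
    _ = _ := by rw [k2]; group

/-- The coset has a representative of one of the two shapes. -/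
def Good (x : E) : Prop :=
  (∃ s u, ∃ y ∈ S.B, x = S.σ s * S.qm u * y) ∨ ∃ w v, S.ω w v = 1 ∧ ∃ y ∈ S.B, x = S.q w * S.qm v * y

theorem good_mul_B {x y : E} (h : S.Good x) (hy : y ∈ S.B) : S.Good (x * y) := by
  rcases h with ⟨s, u, z, hz, rfl⟩ | ⟨w, v, hwv, z, hz, rfl⟩
  · exact Or.inl ⟨s, u, z * y, mul_mem hz hy, by group⟩
  · exact Or.inr ⟨w, v, hwv, z * y, mul_mem hz hy, by group⟩

theorem good_one : S.Good 1 := Or.inl ⟨1, 0, 1, one_mem _, by rw [map_one, qm_zero]; group⟩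

theorem good_φ (g : G) {x : E} (h : S.Good x) : S.Good (S.φ g * x) := by
  rcases h with ⟨s, u, z, hz, rfl⟩ | ⟨w, v, hwv, z, hz, rfl⟩
  · refine Or.inl ⟨s, S.α g u, S.φ g * z, mul_mem (S.φ_mem g) hz, ?_⟩
    calc S.φ g * (S.σ s * S.qm u * z) = (S.φ g * S.σ s) * S.qm u * z := by group
      _ = S.σ s * (S.φ g * S.qm u) * z := by rw [S.comm]; group
      _ = _ := by rw [S.qm_cov]; group
  · refine Or.inr ⟨S.α g w, S.α g v, by rw [S.α_ω, hwv], S.φ g * z, mul_mem (S.φ_mem g) hz, ?_⟩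
    calc S.φ g * (S.q w * S.qm v * z) = (S.φ g * S.q w) * S.qm v * z := by group
      _ = S.q (S.α g w) * (S.φ g * S.qm v) * z := by rw [S.cov']; group
      _ = _ := by rw [S.qm_cov]; group

/-- `q w` on a coset whose plane part is off the first axis. -/
theorem q_off {s : SpecialLinearGroup (Fin 2) F} (hs : s.1 1 0 ≠ 0) (w u : V) :
    ∃ t u', ∃ y ∈ S.B, S.q w * (S.σ s * S.qm u) = S.σ t * S.qm u' * y := by
  obtain ⟨d, d', e⟩ := exists_bruhat hs
  set l := Units.mk0 _ hs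
  obtain ⟨y, hy, hy'⟩ := S.a_qm d' u
  have e1 : S.q w * (S.a d * S.σ sw * S.σ (sh l)) =
      S.a d * S.σ sw * S.σ (sh l) * S.qm ((l : F) • -w) := by
    calc S.q w * (S.a d * S.σ sw * S.σ (sh l))
        = (S.q w * S.a d) * S.σ sw * S.σ (sh l) := by group
      _ = S.a d * (S.q w * S.σ sw) * S.σ (sh l) := by rw [← S.a_q]; group
      _ = S.a d * S.σ sw * (S.σ (sh l) * S.qm ((l : F) • -w)) := by
          rw [S.q_w, S.h_qm, smul_smul]; simp; group
      _ = _ := by group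
  refine ⟨sa d * sw * sh l * sb (-S.ω ((l : F) • -w) u), (l : F) • -w + u, y, hy, ?_⟩
  calc S.q w * (S.σ s * S.qm u) = S.q w * (S.a d * S.σ sw * S.σ (sh l)) * (S.a d' * S.qm u) := by
        rw [e, map_mul, map_mul, map_mul, a, a]; group
    _ = S.a d * S.σ sw * S.σ (sh l) * (S.qm ((l : F) • -w) * S.qm u) * y := by rw [e1, hy']; group
    _ = S.a d * S.σ sw * S.σ (sh l) * (S.b (-S.ω ((l : F) • -w) u) * S.qm ((l : F) • -w + u)) * y := by
        rw [S.qm_add, S.b_qm]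
    _ = _ := by rw [map_mul, map_mul, map_mul, a, b]; group

/-- The factorisation of a root element through a lower root element of the plane. -/
theorem q_split (t : F) (w : V) : ∃ τ : G, (∀ x, S.α τ x = x + (t * S.ω w x) • w) ∧
    S.q w = (S.φ τ)⁻¹ * S.σ sw * S.q (-(t • w)) * (S.σ sw)⁻¹ * S.b t * S.q w * S.σ (sb (-t)) := by
  obtain ⟨τ, hτ, h⟩ := S.low t w
  refine ⟨τ, hτ, ?_⟩
  have hb : S.σ (sb (-t)) = (S.b t)⁻¹ := by
    rw [b, ← map_inv]
    congr 1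
    rw [eq_inv_iff_mul_eq_one]
    apply sl_ext <;> simp [sl_mul, sb, mk2_apply]
  rw [hb, ← S.q_inv, show (S.φ τ)⁻¹ * S.σ sw * (S.q (t • w))⁻¹ * (S.σ sw)⁻¹ * S.b t * S.q w * (S.b t)⁻¹
      = (S.qm (t • w) * S.φ τ)⁻¹ * (S.b t * S.q w * (S.b t)⁻¹) by rw [qm]; group, h]
  group

/-- The key lemma: `q w q⁻ u` is good. -/
theorem good_key (w u : V) : S.Good (S.q w * S.qm u) := by
  by_cases h1 : S.ω w u = 1
  · exact Or.inr ⟨w, u, h1, 1, one_mem _, by group⟩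
  obtain ⟨τ, -, hsplit⟩ := S.q_split 1 w
  obtain ⟨s, u', y, hy, hoff⟩ := S.q_off (s := sb (-1 : F)) (by simp [sb, mk2_apply]) w u
  -- the plane part after the inner factors
  have hρ := congrArg (fun x : E => (S.ρ x ((1, 0), 0)).1) hoff
  have hyB := hy
  obtain ⟨u₀, d₀, g₀, hy0⟩ := hy
  simp only [hy0, map_mul, Equiv.Perm.mul_apply, S.ρσ, S.ρqm, S.ρq, S.ρφ, a, map_zero, act2, sa, sb, mk2_apply] at hρ
  simp at hρ
  set r : SpecialLinearGroup (Fin 2) F := sw⁻¹ * (sb 1 * s) with hr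
  have hr10 : r.1 1 0 ≠ 0 := by
    rw [hr, sw_inv]
    simp [sl_mul, sb, mk2_apply, ← hρ.1, ← hρ.2]
    exact fun e0 => h1 (by linear_combination e0)
  obtain ⟨t', u'', y', hy', hoff'⟩ := S.q_off hr10 (-((1 : F) • w)) u'
  have hg := S.good_φ τ⁻¹ (x := S.σ sw * (S.σ t' * S.qm u'' * y') * y)
    (S.good_mul_B (Or.inl ⟨sw * t', u'', y', hy', by rw [map_mul]; group⟩) hyB)
  convert hg using 1
  rw [map_inv, ← hoff', hr, map_mul, map_mul, map_inv]
  calc S.q w * S.qm u = (S.φ τ)⁻¹ * S.σ sw * S.q (-((1 : F) • w)) * (S.σ sw)⁻¹ * S.b 1 *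
        (S.q w * (S.σ (sb (-1)) * S.qm u)) := by
        conv_lhs => rw [hsplit]
        group
    _ = _ := by rw [hoff, b]; group

theorem good_a_second (d : F) {w v : V} : ∃ y ∈ S.B, S.a d * (S.q w * S.qm v) = S.q w * S.qm v * y := by
  obtain ⟨y, hy, h⟩ := S.a_qm d v
  refine ⟨y, hy, ?_⟩
  rw [← mul_assoc, S.a_q, mul_assoc, h]; group

/-- The cosets of the second shape are fixed by the Weyl element and the torus. -/
theorem second_fix (l : Fˣ) {w v : V} (hwv : S.ω w v = 1) :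
    ∃ y ∈ S.B, S.σ sw * S.σ (sh l) * (S.q w * S.qm v) = S.q w * S.qm v * y := by
  set t : F := -(l : F)
  obtain ⟨τ, hτ, hsplit⟩ := S.q_split t w
  have ht : (l : F) ≠ 0 := l.ne_zero
  set z := (-t) • -w
  -- `q w b(-t) = a d w h (q⁻ z) a d'`
  set d : F := ((l⁻¹ : Fˣ) : F)
  obtain ⟨y, hy, hy'⟩ := S.a_qm d v
  have e0 : sb (-t) = sa d * sw * sh l * sa d := by
    apply sl_ext <;> simp [sl_mul, sa, sb, sw, sh, mk2_apply, t, d]
  have e1 : sb t * sa d * sw * sh l * sb (-S.ω ((l : F) • -w) v) = sw * sh l * sa d := by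
    apply sl_ext <;> simp [sl_mul, sa, sb, sw, sh, mk2_apply, t, d, hwv]
  set u₁ := (l : F) • -w + v with hu1
  obtain ⟨y₁, hy₁, hy₁'⟩ := S.a_qm d u₁
  have inner : S.b t * S.q w * S.σ (sb (-t)) * S.qm v = S.σ sw * S.σ (sh l) * S.qm u₁ * (y₁ * y) := by
    calc S.b t * S.q w * S.σ (sb (-t)) * S.qm v
        = S.b t * ((S.q w * S.a d) * S.σ sw * S.σ (sh l)) * (S.a d * S.qm v) := by
          rw [e0, map_mul, map_mul, map_mul, a]; group
      _ = S.b t * (S.a d * (S.q w * S.σ sw) * S.σ (sh l)) * (S.qm v * y) := by rw [← S.a_q, hy']; group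
      _ = S.b t * S.a d * S.σ sw * S.σ (sh l) * (S.qm ((l : F) • -w) * S.qm v) * y := by
          rw [S.q_w]
          have hh : S.qm (-w) * S.σ (sh l) = S.σ (sh l) * S.qm ((l : F) • -w) := by
            rw [S.h_qm, smul_smul]; simp
          calc S.b t * (S.a d * (S.σ sw * S.qm (-w)) * S.σ (sh l)) * (S.qm v * y)
              = S.b t * S.a d * S.σ sw * (S.qm (-w) * S.σ (sh l)) * S.qm v * y := by group
            _ = _ := by rw [hh]; group
      _ = S.b t * S.a d * S.σ sw * S.σ (sh l) * (S.b (-S.ω ((l : F) • -w) v) * S.qm u₁) * y := by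
          rw [S.qm_add, S.b_qm]
      _ = S.σ (sb t * sa d * sw * sh l * sb (-S.ω ((l : F) • -w) v)) * S.qm u₁ * y := by
          simp only [map_mul, a, b]; group
      _ = S.σ sw * S.σ (sh l) * (S.a d * S.qm u₁) * y := by rw [e1, map_mul, map_mul, a]; group
      _ = _ := by rw [hy₁']; group
  have hτw : S.α τ⁻¹ w = w := by
    conv_lhs => rw [show w = S.α τ w by rw [hτ, S.alt]; simp]
    exact S.α_inv τ w
  have hτu : S.α τ⁻¹ u₁ = v := by
    conv_lhs => rw [show u₁ = S.α τ v by rw [hτ, hwv, hu1]; simp [t]; abel]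
    exact S.α_inv τ v
  have hmove : S.q (-(t • w)) * S.σ (sh l) = S.σ (sh l) * S.q w := by
    rw [S.h_q]; simp [t]
  have hcw : ∀ x, S.φ τ⁻¹ * S.σ x = S.σ x * S.φ τ⁻¹ := fun x => S.comm _ x
  have main : S.q w * S.qm v = S.σ sw * S.σ (sh l) * (S.q w * S.qm v) * (S.φ τ⁻¹ * (y₁ * y)) := by
    calc S.q w * S.qm v = S.φ τ⁻¹ * S.σ sw * S.q (-(t • w)) * (S.σ sw)⁻¹ *
          (S.b t * S.q w * S.σ (sb (-t)) * S.qm v) := by
            conv_lhs => rw [hsplit]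
            rw [map_inv]; group
      _ = S.φ τ⁻¹ * S.σ sw * (S.q (-(t • w)) * S.σ (sh l)) * S.qm u₁ * (y₁ * y) := by rw [inner]; group
      _ = (S.φ τ⁻¹ * S.σ (sw * sh l)) * S.q w * S.qm u₁ * (y₁ * y) := by rw [hmove, map_mul]; group
      _ = S.σ (sw * sh l) * (S.φ τ⁻¹ * S.q w) * S.qm u₁ * (y₁ * y) := by rw [hcw]; group
      _ = S.σ (sw * sh l) * S.q w * (S.φ τ⁻¹ * S.qm u₁) * (y₁ * y) := by rw [S.cov', hτw]; group
      _ = _ := by rw [S.qm_cov, hτu, map_mul]; group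
  exact ⟨(S.φ τ⁻¹ * (y₁ * y))⁻¹, inv_mem (mul_mem (S.φ_mem _) (mul_mem hy₁ hy)), (eq_mul_inv_iff_mul_eq.2 main.symm)⟩

theorem good_σ (s : SpecialLinearGroup (Fin 2) F) {x : E} (h : S.Good x) : S.Good (S.σ s * x) := by
  rcases h with ⟨s', u, z, hz, rfl⟩ | ⟨w, v, hwv, z, hz, rfl⟩
  · exact Or.inl ⟨s * s', u, z, hz, by rw [map_mul]; group⟩
  let P : Subgroup (SpecialLinearGroup (Fin 2) F) :=
    { carrier := {s | ∃ y ∈ S.B, S.σ s * (S.q w * S.qm v) = S.q w * S.qm v * y}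
      one_mem' := ⟨1, one_mem _, by simp⟩
      mul_mem' := by
        rintro s₁ s₂ ⟨y₁, h₁, e₁⟩ ⟨y₂, h₂, e₂⟩
        exact ⟨y₁ * y₂, mul_mem h₁ h₂, by rw [map_mul, mul_assoc, e₂, ← mul_assoc, e₁, mul_assoc]⟩
      inv_mem' := by
        rintro s₁ ⟨y₁, h₁, e₁⟩
        refine ⟨y₁⁻¹, inv_mem h₁, ?_⟩
        rw [map_inv, inv_mul_eq_iff_eq_mul, ← mul_assoc, e₁]; group }
  have hPa : ∀ d, sa d ∈ P := fun d => S.good_a_second d
  have hPwh : ∀ l, sw * sh l ∈ P := fun l => by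
    show ∃ y ∈ S.B, S.σ (sw * sh l) * _ = _
    rw [map_mul]; exact S.second_fix l hwv
  have hPh : ∀ l, sh l ∈ P := fun l => by
    have h1 := hPwh 1
    rw [show sh (1 : Fˣ) = 1 by apply sl_ext <;> simp [sh, mk2_apply], mul_one] at h1
    exact (mul_mem_cancel_left h1).1 (hPwh l)
  have hs : s ∈ P := by
    by_cases h0 : s.1 1 0 = 0
    · obtain ⟨l, d', e⟩ := exists_borel h0
      rw [e]; exact mul_mem (hPh l) (hPa d')
    · obtain ⟨d, d', e⟩ := exists_bruhat h0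
      rw [e, mul_assoc (sa d)]; exact mul_mem (mul_mem (hPa d) (hPwh _)) (hPa d')
  obtain ⟨y, hy, e⟩ := hs
  refine Or.inr ⟨w, v, hwv, y * z, mul_mem hy hz, ?_⟩
  rw [← mul_assoc, e]; group

theorem good_q (w : V) {x : E} (h : S.Good x) : S.Good (S.q w * x) := by
  rcases h with ⟨s, u, z, hz, rfl⟩ | ⟨w', v, hwv, z, hz, rfl⟩
  · rw [← mul_assoc]
    refine S.good_mul_B ?_ hz
    by_cases h0 : s.1 1 0 = 0
    · obtain ⟨l, d', e⟩ := exists_borel h0
      obtain ⟨y, hy, hy'⟩ := S.a_qm d' u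
      have e1 : S.q w * S.σ (sh l) = S.σ (sh l) * S.q (((l⁻¹ : Fˣ) : F) • w) := by
        rw [S.h_q, smul_smul]; simp
      have := S.good_mul_B (S.good_σ (sh l) (S.good_key (((l⁻¹ : Fˣ) : F) • w) u)) hy
      convert this using 1
      rw [e, map_mul]
      calc S.q w * (S.σ (sh l) * S.a d' * S.qm u) = (S.q w * S.σ (sh l)) * (S.a d' * S.qm u) := by group
        _ = _ := by rw [e1, hy']; group
    · obtain ⟨t, u', y, hy, e⟩ := S.q_off h0 w u
      rw [e]; exact Or.inl ⟨t, u', y, hy, rfl⟩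
  · obtain ⟨y, hy, hy'⟩ := S.a_qm (S.ω w w') v
    have := S.good_mul_B (S.good_key (w + w') v) (mul_mem hy hz)
    convert this using 1
    calc S.q w * (S.q w' * S.qm v * z) = (S.q w * S.q w') * S.qm v * z := by group
      _ = _ := by rw [S.q_add, mul_assoc (S.q _), hy']; group

theorem good_all (x : E) : S.Good x := by
  suffices h : ∀ z, S.Good z → S.Good (x * z) by simpa using h 1 S.good_one
  have hx : x ∈ Subgroup.closure (Set.range S.φ ∪ Set.range S.σ ∪ Set.range S.R) := by rw [S.gen]; trivial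
  refine Subgroup.closure_induction_left (p := fun x _ => ∀ z, S.Good z → S.Good (x * z)) ?_ ?_ ?_ hx
  · intro z hz; rwa [one_mul]
  · rintro g ((⟨g, rfl⟩ | ⟨s, rfl⟩) | ⟨t, rfl⟩) y - ih z hz <;> rw [mul_assoc]
    · exact S.good_φ g (ih z hz)
    · exact S.good_σ s (ih z hz)
    · rw [← S.q_smul_e]; exact S.good_q _ (ih z hz)
  · rintro g ((⟨g, rfl⟩ | ⟨s, rfl⟩) | ⟨t, rfl⟩) y - ih z hz <;> rw [mul_assoc]
    · rw [← map_inv]; exact S.good_φ g⁻¹ (ih z hz)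
    · rw [← map_inv]; exact S.good_σ s⁻¹ (ih z hz)
    · rw [← S.q_smul_e, S.q_inv]; exact S.good_q _ (ih z hz)

/-- **The step**: the action on `F² ⊕ V` is faithful. -/
theorem ρ_injective : Function.Injective S.ρ := by
  rw [injective_iff_map_eq_one]
  intro x hx
  rcases S.good_all x with ⟨s, u, z, ⟨u₀, d₀, g₀, rfl⟩, rfl⟩ | ⟨w, v, hwv, z, ⟨u₀, d₀, g₀, rfl⟩, rfl⟩
  · have h1 := congrArg (fun π : Equiv.Perm _ => π ((1, 0), (0 : V))) hx
    simp [S.ρσ, S.ρqm, S.ρq, S.ρφ, a, act2, sa, mk2_apply, Prod.ext_iff] at h1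
    obtain ⟨⟨h00, h10⟩, hu⟩ := h1
    subst hu
    obtain ⟨l, d', hs⟩ := exists_borel h10
    have hl : l = 1 := by
      ext
      rw [Units.val_one, ← h00, hs]
      simp [sl_mul, sh, sa, mk2_apply]
    subst hl
    have hse : S.σ s * S.qm (0 : V) = S.a d' := by
      rw [hs, qm_zero, mul_one, show sh (1 : Fˣ) = 1 by apply sl_ext <;> simp [sh, mk2_apply], one_mul]; rfl
    rw [hse] at hx ⊢
    have e : S.a d' * (S.q u₀ * S.a d₀ * S.φ g₀) = S.q u₀ * S.a (d' + d₀) * S.φ g₀ := by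
      rw [← mul_assoc, ← mul_assoc, S.a_q, mul_assoc (S.q u₀), S.a_add]
    rw [e] at hx ⊢
    have h2 := congrArg (fun π : Equiv.Perm _ => π ((0, 1), (0 : V))) hx
    simp [S.ρq, S.ρφ, S.ρσ, a, act2, sa, mk2_apply] at h2
    obtain ⟨hd, hu0⟩ := h2
    subst hu0
    have hg : g₀ = 1 := by
      apply S.α_inj
      refine LinearEquiv.ext fun v => ?_
      have h3 := congrArg (fun π : Equiv.Perm _ => π ((0, 0), v)) hx
      simp [S.ρφ, S.ρσ, a, act2, q_zero] at h3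
      rw [h3, map_one]; rfl
    rw [hd, hg, q_zero, a_zero, map_one]; group
  · have h1 := congrArg (fun π : Equiv.Perm _ => π ((1, 0), (0 : V))) hx
    simp [S.ρσ, S.ρqm, S.ρq, S.ρφ, a, act2, sa, mk2_apply, Prod.ext_iff, hwv] at h1

end Step

end CfsgLib.SpPres
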